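import Cfsg.Agent.SimpleFacts.MinDeg.Main
import Cfsg.Agent.Lib.Characters.Schur
import Mathlib.GroupTheory.GroupAction.Quotient
import Mathlib

/-!
The smallest index of a proper subgroup of `SL_n(q)`.
-/

set_option autoImplicit false
set_option linter.unusedSectionVars false

namespace Cfsg.Agent.SimpleFacts.MinDeg

open Matrix Module Cfsg.Agent.Characters

universe u

variable {F : Type u} [Field F] [Fintype F]

section perm

variable {G : Type u} [Group G] [Fintype G] (H : Subgroup G)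

/-- The permutation character of a coset space, split off its trivial part. -/
theorem exists_perm_constituents [Fintype (Cfsg.IrrCharacter G)] :
    ∃ c : Cfsg.IrrCharacter G → ℕ, c (trivIrr G) = 1 ∧
      ∀ g, (Nat.card (MulAction.fixedBy (G ⧸ H) g) : ℂ) = ∑ χ : Cfsg.IrrCharacter G, (c χ : ℂ) * (χ : G → ℂ) g := by
  classical
  have hπ := isCharacter_permChar (G := G) (G ⧸ H)
  obtain ⟨c, hc⟩ := exists_constituents hπ
  refine ⟨c, ?_, hc⟩
  have hin : Cfsg.classInner (fun g : G => (Nat.card (MulAction.fixedBy (G ⧸ H) g) : ℂ)) (fun _ => 1) = 1 := by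
    have hb := MulAction.sum_card_fixedBy_eq_card_orbits_mul_card_group G (G ⧸ H)
    have hu : Fintype.card (MulAction.orbitRel.Quotient G (G ⧸ H)) = 1 := by
      have : Subsingleton (MulAction.orbitRel.Quotient G (G ⧸ H)) := ⟨fun a b =>
        Quotient.inductionOn₂' a b fun x y => Quotient.sound' (by
          obtain ⟨g, hg⟩ := MulAction.exists_smul_eq G y x
          exact ⟨g, hg⟩)⟩
      exact le_antisymm (Fintype.card_le_one_iff_subsingleton.2 this)
        (Fintype.card_pos_iff.2 ⟨Quotient.mk'' ((1 : G) : G ⧸ H)⟩)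
    rw [hu, one_mul] at hb
    rw [classInner_def]
    simp only [map_one, mul_one]
    rw [← Nat.cast_sum, show ∑ g : G, Nat.card (MulAction.fixedBy (G ⧸ H) g) = Fintype.card G by
      simpa only [Nat.card_eq_fintype_card] using hb, Nat.card_eq_fintype_card,
      inv_mul_cancel₀ (Nat.cast_ne_zero.2 Fintype.card_ne_zero)]
  have hexp : (fun g : G => (Nat.card (MulAction.fixedBy (G ⧸ H) g) : ℂ)) =
      ∑ χ : Cfsg.IrrCharacter G, (c χ : ℂ) • (χ : G → ℂ) := by
    funext g
    rw [hc g, Finset.sum_apply]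
    rfl
  rw [hexp] at hin
  change Cfsg.classInner _ ((trivIrr G : Cfsg.IrrCharacter G) : G → ℂ) = 1 at hin
  rw [classInner_sum_smul_irr (c := fun χ => (c χ : ℂ)) Finset.univ (trivIrr G),
    if_pos (Finset.mem_univ _)] at hin
  exact_mod_cast hin

theorem sum_deg [Fintype (Cfsg.IrrCharacter G)] (c : Cfsg.IrrCharacter G → ℕ) (hc1 : c (trivIrr G) = 1)
    (hc : ∀ g, (Nat.card (MulAction.fixedBy (G ⧸ H) g) : ℂ) = ∑ χ : Cfsg.IrrCharacter G, (c χ : ℂ) * (χ : G → ℂ) g)
    (d : Cfsg.IrrCharacter G → ℕ) (hd : ∀ χ : Cfsg.IrrCharacter G, (χ : G → ℂ) 1 = (d χ : ℂ)) :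
    H.index = ∑ χ, c χ * d χ ∧ ∀ χ, χ ≠ trivIrr G → c χ * d χ + 1 ≤ H.index := by
  classical
  have h1 := hc 1
  rw [MulAction.fixedBy_one_eq_univ, Nat.card_coe_set_eq, Set.ncard_univ,
    ← Subgroup.index_eq_card] at h1
  simp only [hd, ← Nat.cast_mul, ← Nat.cast_sum, Nat.cast_inj] at h1
  refine ⟨h1, fun χ hχ => ?_⟩
  rw [h1]
  have := Finset.add_le_sum (f := fun χ => c χ * d χ) (fun _ _ => Nat.zero_le _) (Finset.mem_univ χ)
    (Finset.mem_univ (trivIrr G)) hχ
  have ht : d (trivIrr G) = 1 := Nat.cast_injective (R := ℂ) ((hd _).symm.trans Nat.cast_one.symm)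
  rw [hc1, ht] at this
  simpa using this

/-- A proper subgroup of a perfect group has a nonlinear constituent in its permutation character. -/
theorem exists_nonlinear [Fintype (Cfsg.IrrCharacter G)] (hperf : commutator G = ⊤) (hH : H ≠ ⊤)
    (c : Cfsg.IrrCharacter G → ℕ)
    (hc : ∀ g, (Nat.card (MulAction.fixedBy (G ⧸ H) g) : ℂ) = ∑ χ : Cfsg.IrrCharacter G, (c χ : ℂ) * (χ : G → ℂ) g)
    (d : Cfsg.IrrCharacter G → ℕ) (hd : ∀ χ : Cfsg.IrrCharacter G, (χ : G → ℂ) 1 = (d χ : ℂ)) :
    ∃ χ, χ ≠ trivIrr G ∧ c χ ≠ 0 ∧ 2 ≤ d χ := by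
  classical
  by_contra hcon
  push Not at hcon
  have hlin : ∀ χ, c χ ≠ 0 → ∀ g, (χ : G → ℂ) g = (χ : G → ℂ) 1 := by
    intro χ hχ g
    by_cases ht : χ = trivIrr G
    · subst ht; rfl
    obtain ⟨d', hd'0, hd'⟩ := irr_one_pos χ.2
    have hd1 : d χ = 1 := by
      have e : d' = d χ := Nat.cast_injective (R := ℂ) (hd'.symm.trans (hd χ))
      have := hcon χ ht hχ
      omega
    have h1 : (χ : G → ℂ) 1 = 1 := by rw [hd, hd1, Nat.cast_one]
    let f : G →* ℂ :=
      { toFun := χ.1
        map_one' := h1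
        map_mul' := fun x y => char_mul_of_degree_one (isCharacter_of_isIrr χ.2) h1 x y }
    have hg : g ∈ f.toHomUnits.ker := Abelianization.commutator_subset_ker _ (hperf.symm ▸ Subgroup.mem_top g)
    rw [h1]
    exact congrArg Units.val (MonoidHom.mem_ker.1 hg)
  refine hH ((Subgroup.eq_top_iff' H).2 fun g => ?_)
  have he : (Nat.card (MulAction.fixedBy (G ⧸ H) g) : ℂ) = (Nat.card (MulAction.fixedBy (G ⧸ H) (1 : G)) : ℂ) := by
    rw [hc g, hc 1]
    refine Finset.sum_congr rfl fun χ _ => ?_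
    by_cases h0 : c χ = 0
    · simp [h0]
    · rw [hlin χ h0 g]
  rw [Nat.cast_inj, Nat.card_coe_set_eq, Nat.card_coe_set_eq, MulAction.fixedBy_one_eq_univ] at he
  have hu : MulAction.fixedBy (G ⧸ H) g = Set.univ :=
    Set.eq_of_subset_of_ncard_le (Set.subset_univ _) he.ge (Set.toFinite _)
  have h1 : g • ((1 : G) : G ⧸ H) = ((1 : G) : G ⧸ H) := by
    have : ((1 : G) : G ⧸ H) ∈ MulAction.fixedBy (G ⧸ H) g := hu.symm ▸ Set.mem_univ _
    exact this
  rw [MulAction.Quotient.smul_coe, smul_eq_mul, mul_one, eq_comm, QuotientGroup.eq, inv_one, one_mul] at h1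
  exact h1

end perm

/-- The generic bound. -/
theorem index_ge {n : ℕ} (hn : 3 ≤ n)
    (hex : (n, Fintype.card F) ≠ (3, 2) ∧ (n, Fintype.card F) ≠ (3, 4) ∧ (n, Fintype.card F) ≠ (4, 2) ∧
      (n, Fintype.card F) ≠ (4, 3))
    (H : Subgroup (Matrix.SpecialLinearGroup (Fin n) F)) (hH : H ≠ ⊤) :
    T (Fintype.card F) (n - 1) + 1 ≤ H.index := by
  classical
  haveI := Fintype.ofFinite (Cfsg.IrrCharacter (Matrix.SpecialLinearGroup (Fin n) F))
  obtain ⟨c, hc1, hc⟩ := exists_perm_constituents H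
  choose d hd0 hd using fun χ : Cfsg.IrrCharacter (Matrix.SpecialLinearGroup (Fin n) F) => irr_one_pos χ.2
  obtain ⟨χ, hne, hcχ, hdeg⟩ := exists_nonlinear H
    (Classical.Linear.commutator_SL_eq_top (by rw [Fintype.card_fin]; exact hn)) hH c hc d hd
  obtain ⟨-, hbound⟩ := sum_deg H c hc1 hc d hd
  obtain ⟨k, ρ, hirr, hρ⟩ := χ.2
  have hk : k = d χ := Nat.cast_injective (R := ℂ) (by rw [← hd χ, ← hρ, Representation.char_one, finrank_fun])
  have h := special_linear hn hex ρ hirr (by omega)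
  have h2 := hbound χ hne
  have h3 : d χ ≤ c χ * d χ := Nat.le_mul_of_pos_left _ (Nat.pos_of_ne_zero hcχ)
  omega

/-- For small index the permutation action is doubly transitive, with a unique multiplicity. -/
theorem small_index {m : ℕ} (hm : 2 ≤ m) (H : Subgroup (Matrix.SpecialLinearGroup (Fin (m + 1)) F)) (hH : H ≠ ⊤)
    (hsmall : H.index ≤ 2 * (Fintype.card F ^ m - 1)) :
    Fintype.card F ^ m ≤ H.index ∧
    (H.index - 1) * (Fintype.card F - 1) ∣
      (Fintype.card F ^ (m + 1) - 1) * (Fintype.card F ^ m - 1) * Fintype.card F ^ m ∧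
    ∀ g : Matrix.SpecialLinearGroup (Fin (m + 1)) F,
      Cfsg.IsTransvection ((slEquiv F m g : GL (Fin (m + 1)) F) : Matrix (Fin (m + 1)) (Fin (m + 1)) F) →
      Nat.card (MulAction.fixedBy (Matrix.SpecialLinearGroup (Fin (m + 1)) F ⧸ H) g) + Fintype.card F ^ m =
        H.index := by
  classical
  haveI := Fintype.ofFinite (Cfsg.IrrCharacter (Matrix.SpecialLinearGroup (Fin (m + 1)) F))
  obtain ⟨c, hc1, hc⟩ := exists_perm_constituents H
  choose d hd0 hd using fun χ : Cfsg.IrrCharacter (Matrix.SpecialLinearGroup (Fin (m + 1)) F) => irr_one_pos χ.2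
  have hperf := Classical.Linear.commutator_SL_eq_top (n := Fin (m + 1)) (F := F) (by rw [Fintype.card_fin]; omega)
  obtain ⟨χ₀, hne₀, hcχ₀, hdeg₀⟩ := exists_nonlinear H hperf hH c hc d hd
  obtain ⟨hsum, hbound⟩ := sum_deg H c hc1 hc d hd
  have hq2 : 2 ≤ Fintype.card F := Fintype.one_lt_card
  -- every nontrivial constituent has degree at least `q ^ m - 1`
  have hlow : ∀ χ, χ ≠ trivIrr _ → Fintype.card F ^ m - 1 ≤ d χ := by
    intro χ hχ
    obtain ⟨k, ρ, hirr, hρ⟩ := χ.2
    have hk : k = d χ := Nat.cast_injective (R := ℂ) (by rw [← hd χ, ← hρ, Representation.char_one, finrank_fun])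
    rcases Nat.lt_or_ge k 2 with h | h
    · exfalso
      refine hχ (Subtype.ext (funext fun g => ?_))
      have h1 : χ.1 1 = 1 := by
        have := hd0 χ
        rw [hd, show d χ = 1 by omega, Nat.cast_one]
      let f : Matrix.SpecialLinearGroup (Fin (m + 1)) F →* ℂ :=
        { toFun := χ.1
          map_one' := h1
          map_mul' := fun x y => char_mul_of_degree_one (isCharacter_of_isIrr χ.2) h1 x y }
      have hg : g ∈ f.toHomUnits.ker := Abelianization.commutator_subset_ker _ (hperf.symm ▸ Subgroup.mem_top g)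
      exact congrArg Units.val (MonoidHom.mem_ker.1 hg)
    · obtain ⟨j, -, hj1, hj2⟩ := (slSetting ρ).exists_mult hm
      have hj : 1 ≤ j := Nat.one_le_iff_ne_zero.2 fun h0 => slSetting_nt hm ρ hirr h (by
        rw [h0, Nat.cast_zero, zero_mul] at hj1; exact sub_eq_zero.1 hj1)
      rw [finrank_fun] at hj2
      have := Nat.le_mul_of_pos_right (Fintype.card F ^ m - 1) hj
      omega
  -- there is exactly one
  have hb0 := hbound χ₀ hne₀
  have hl0 := hlow χ₀ hne₀
  have hc0 : c χ₀ = 1 := by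
    by_contra hne'
    have : 2 * d χ₀ ≤ c χ₀ * d χ₀ := Nat.mul_le_mul_right _ (by omega)
    omega
  have honly : ∀ χ, χ ≠ trivIrr _ → χ ≠ χ₀ → c χ = 0 := by
    intro χ hχ hχ'
    by_contra hcχ
    have h1 := hlow χ hχ
    have h2 : d χ ≤ c χ * d χ := Nat.le_mul_of_pos_left _ (Nat.pos_of_ne_zero hcχ)
    have hsub : ∑ ψ ∈ ({χ, χ₀, trivIrr _} : Finset (Cfsg.IrrCharacter _)), c ψ * d ψ ≤ H.index := by
      rw [hsum]; exact Finset.sum_le_sum_of_subset (Finset.subset_univ _)
    rw [Finset.sum_insert (by simp [hχ, hχ']), Finset.sum_pair hne₀, hc1, hc0] at hsub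
    have := hd0 (trivIrr _)
    omega
  have hsplit : ∀ g, (Nat.card (MulAction.fixedBy (Matrix.SpecialLinearGroup (Fin (m + 1)) F ⧸ H) g) : ℂ) =
      1 + χ₀.1 g := by
    intro g
    rw [hc g, ← Finset.sum_subset (Finset.subset_univ ({trivIrr _, χ₀} : Finset (Cfsg.IrrCharacter _)))
      (fun χ _ hχ => by
        simp only [Finset.mem_insert, Finset.mem_singleton, not_or] at hχ
        rw [honly χ hχ.1 hχ.2, Nat.cast_zero, zero_mul]), Finset.sum_pair (Ne.symm hne₀), hc1, hc0]
    simp [trivIrr]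
  obtain ⟨k, ρ, hirr, hρ⟩ := χ₀.2
  have hk : k = d χ₀ := Nat.cast_injective (R := ℂ) (by rw [← hd χ₀, ← hρ, Representation.char_one, finrank_fun])
  have hI : H.index = 1 + k := by
    have h1 := hsplit 1
    rw [MulAction.fixedBy_one_eq_univ, Nat.card_coe_set_eq, Set.ncard_univ, ← Subgroup.index_eq_card, hd,
      ← hk] at h1
    exact_mod_cast h1
  haveI := hirr
  haveI := slSetting_irreducible ρ
  obtain ⟨j, -, hj1, hj2⟩ := (slSetting ρ).exists_mult hm
  have hj0 : j ≠ 0 := fun h0 => slSetting_nt hm ρ hirr (by omega) (by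
    rw [h0, Nat.cast_zero, zero_mul] at hj1; exact sub_eq_zero.1 hj1)
  have hj : j = 1 := by
    by_contra hne'
    rw [finrank_fun] at hj2
    have := Nat.mul_le_mul_left (Fintype.card F ^ m - 1) (show 2 ≤ j by omega)
    omega
  subst hj
  have hdvd := (slSetting ρ).dvd_of_irreducible hm hj1
  rw [finrank_fun, one_mul, show k = H.index - 1 by omega] at hdvd
  have hfix : ∀ g : Matrix.SpecialLinearGroup (Fin (m + 1)) F,
      Cfsg.IsTransvection ((slEquiv F m g : GL (Fin (m + 1)) F) : Matrix (Fin (m + 1)) (Fin (m + 1)) F) →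
      Nat.card (MulAction.fixedBy (Matrix.SpecialLinearGroup (Fin (m + 1)) F ⧸ H) g) + Fintype.card F ^ m =
        H.index := by
    intro g hg
    have h1 := hsplit g
    rw [← hρ, ← slSetting_character ρ g, (slSetting ρ).char_transvection hm hg] at h1
    rw [finrank_fun, Nat.cast_one, one_mul] at hj1
    have h2 : ((Nat.card (MulAction.fixedBy (Matrix.SpecialLinearGroup (Fin (m + 1)) F ⧸ H) g) +
        Fintype.card F ^ m : ℕ) : ℂ) = ((1 + k : ℕ) : ℂ) := by
      push_cast
      linear_combination h1 - hj1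
    rw [hI]
    exact_mod_cast h2
  refine ⟨?_, hdvd, hfix⟩
  have := hfix (Matrix.SpecialLinearGroup.transvection
    (show (⟨0, by omega⟩ : Fin (m + 1)) ≠ ⟨1, by omega⟩ by simp) 1) (root_isTransvection _ one_ne_zero)
  omega

/-- `SL_3(4)`. -/
theorem index_three_four (hq : Fintype.card F = 4) (H : Subgroup (Matrix.SpecialLinearGroup (Fin 3) F))
    (hH : H ≠ ⊤) : 21 ≤ H.index := by
  classical
  by_contra hlt
  push Not at hlt
  obtain ⟨hlo, hdvd, hfix⟩ := small_index (m := 2) le_rfl H hH (by rw [hq]; omega)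
  rw [hq] at hlo hdvd hfix
  have hcard : Nat.card (Matrix.SpecialLinearGroup (Fin 3) F) = 60480 := by
    have h := Classical.Linear.mul_natCard_SL_fin (F := F) (show 1 ≤ 3 by omega)
    rw [hq, Fin.prod_univ_three] at h
    norm_num at h
    rw [Nat.card_eq_fintype_card]
    omega
  have hI := H.index_dvd_card
  rw [hcard] at hI
  have hprod := H.card_mul_index
  rw [hcard] at hprod
  obtain ⟨I, hIdef⟩ : ∃ I, I = H.index := ⟨_, rfl⟩
  rw [← hIdef] at hlo hdvd hI hprod hlt hfix
  have hI16 : I = 16 := by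
    interval_cases I <;> first | rfl | (exfalso; revert hI; decide) | (exfalso; revert hdvd; decide)
  subst hI16
  have heven : 2 ∣ Nat.card H := ⟨1890, by omega⟩
  haveI : Fact (Nat.Prime 2) := ⟨Nat.prime_two⟩
  obtain ⟨⟨g, hgH⟩, hg⟩ := exists_prime_orderOf_dvd_card' (G := H) 2 heven
  rw [Subgroup.orderOf_mk] at hg
  haveI hc2 : CharP F 2 := by
    obtain ⟨e, hp, hk⟩ := FiniteField.card F (ringChar F)
    have h2 : ringChar F ∣ 2 ^ 2 := by rw [show (2 : ℕ) ^ 2 = 4 from rfl, ← hq, hk]; exact dvd_pow_self _ e.pos.ne'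
    exact (Nat.prime_dvd_prime_iff_eq hp Nat.prime_two).1 (hp.dvd_of_dvd_pow h2) ▸ ringChar.charP F
  have ht : Cfsg.IsTransvection ((slEquiv F 2 g : GL (Fin 3) F) : Matrix (Fin 3) (Fin 3) F) := by
    rw [isTransvection_iff]
    show ((g : Matrix (Fin 3) (Fin 3) F) - 1).rank = 1 ∧
      ((g : Matrix (Fin 3) (Fin 3) F) - 1) * ((g : Matrix (Fin 3) (Fin 3) F) - 1) = 0
    have hsq : (g : Matrix (Fin 3) (Fin 3) F) * (g : Matrix (Fin 3) (Fin 3) F) = 1 := by
      have : g * g = 1 := by rw [← sq, ← hg, pow_orderOf_eq_one]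
      exact congrArg Subtype.val this
    have h2 : (1 : Matrix (Fin 3) (Fin 3) F) + 1 = 0 := by
      ext i j
      simp only [Matrix.add_apply, Matrix.zero_apply]
      exact CharTwo.add_self_eq_zero _
    have hM : ((g : Matrix (Fin 3) (Fin 3) F) - 1) * ((g : Matrix (Fin 3) (Fin 3) F) - 1) = 0 := by
      rw [mul_sub, sub_mul, sub_mul, mul_one, mul_one, hsq, one_mul]
      have e : (g : Matrix (Fin 3) (Fin 3) F) + g = 0 := by
        ext i j
        simp only [Matrix.add_apply, Matrix.zero_apply]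
        exact CharTwo.add_self_eq_zero _
      calc (1 : Matrix (Fin 3) (Fin 3) F) - g - (g - 1) = (1 + 1) - ((g : Matrix (Fin 3) (Fin 3) F) + g) := by abel
        _ = 0 := by rw [h2, e, sub_zero]
    refine ⟨le_antisymm ?_ (Nat.one_le_iff_ne_zero.2 fun h0 => ?_), hM⟩
    · have := Matrix.rank_add_rank_le_card_of_mul_eq_zero hM
      rw [Fintype.card_fin] at this
      omega
    · rw [Matrix.rank, Submodule.finrank_eq_zero, LinearMap.range_eq_bot] at h0
      have hg1 : (g : Matrix (Fin 3) (Fin 3) F) = 1 := sub_eq_zero.1 (by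
        ext i j
        have := congrFun (LinearMap.congr_fun h0 (Pi.single j 1)) i
        simp only [Matrix.mulVecLin_apply, Matrix.mulVec_single_one, Matrix.col_apply, LinearMap.zero_apply,
          Pi.zero_apply] at this
        exact this)
      rw [show g = 1 from Subtype.ext hg1, orderOf_one] at hg
      norm_num at hg
  have hfg : Nat.card (MulAction.fixedBy (Matrix.SpecialLinearGroup (Fin 3) F ⧸ H) g) + 4 ^ 2 = 16 := hfix g ht
  have hpos : 0 < Nat.card (MulAction.fixedBy (Matrix.SpecialLinearGroup (Fin 3) F ⧸ H) g) := by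
    rw [Nat.card_pos_iff]
    refine ⟨⟨⟨((1 : Matrix.SpecialLinearGroup (Fin 3) F) : Matrix.SpecialLinearGroup (Fin 3) F ⧸ H), ?_⟩⟩,
      inferInstance⟩
    rw [MulAction.mem_fixedBy, MulAction.Quotient.smul_coe, smul_eq_mul, mul_one, QuotientGroup.eq, mul_one]
    exact inv_mem hgH
  omega

/-- `SL_4(3)`. -/
theorem index_four_three (hq : Fintype.card F = 3) (H : Subgroup (Matrix.SpecialLinearGroup (Fin 4) F))
    (hH : H ≠ ⊤) : 40 ≤ H.index := by
  classical
  by_contra hlt
  push Not at hlt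
  obtain ⟨hlo, hdvd, hfix⟩ := small_index (m := 3) (by omega) H hH (by rw [hq]; omega)
  rw [hq] at hlo hdvd hfix
  have hcard : Nat.card (Matrix.SpecialLinearGroup (Fin 4) F) = 12130560 := by
    have h := Classical.Linear.mul_natCard_SL_fin (F := F) (show 1 ≤ 4 by omega)
    rw [hq, Fin.prod_univ_four] at h
    norm_num at h
    rw [Nat.card_eq_fintype_card]
    omega
  have hI := H.index_dvd_card
  rw [hcard] at hI
  obtain ⟨I, hIdef⟩ : ∃ I, I = H.index := ⟨_, rfl⟩
  rw [← hIdef] at hlo hdvd hI hlt hfix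
  have hI27 : I = 27 := by
    interval_cases I <;> first | rfl | (exfalso; revert hI; decide) | (exfalso; revert hdvd; decide)
  subst hI27
  set Ω := Matrix.SpecialLinearGroup (Fin 4) F ⧸ H with hΩ
  have hΩcard : Fintype.card Ω = 27 := by rw [← Nat.card_eq_fintype_card, ← Subgroup.index_eq_card, ← hIdef]
  let D := slSetting (F := F) (m := 3) (Representation.trivial ℂ (Matrix.SpecialLinearGroup (Fin 4) F) ℂ)
  let e : D.H →* Matrix.SpecialLinearGroup (Fin 4) F := (slEquiv F 3).symm.toMonoidHom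
  -- no transvection fixes a point
  have hnf : ∀ (g : D.H) (x : Ω),
      Cfsg.IsTransvection ((g : GL (Fin 4) F) : Matrix (Fin 4) (Fin 4) F) → e g • x ≠ x := by
    intro g x hg hx
    have h := hfix (e g) (by
      rw [show slEquiv F 3 (e g) = g from (slEquiv F 3).apply_symm_apply g]; exact hg)
    replace h : Nat.card (MulAction.fixedBy Ω (e g)) + 3 ^ 3 = 27 := h
    have hpos : 0 < Nat.card (MulAction.fixedBy Ω (e g)) := Nat.card_pos_iff.2 ⟨⟨⟨x, hx⟩⟩, inferInstance⟩
    omega
  -- a diagonal four-group fixes a point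
  let sgn : Fin 3 → Fin 3 → Fˣ := fun k l => if l = k then 1 else -1
  let q : Fin 3 → GL (Fin 3) F := fun k => dg (sgn k)
  have hdetq : ∀ k, GeneralLinearGroup.det (q k) = 1 := fun k => by
    rw [det_dg]; fin_cases k <;> simp [sgn, Fin.prod_univ_three]
  obtain ⟨ω, hω⟩ : ∃ ω : Ω, ∀ k, e (D.ι (q k)) • ω = ω := by
    let f : (Fin 3 → Fˣ) →* GL (Fin 3) F :=
      { toFun := dg
        map_one' := Units.ext (by rw [coe_dg]; simp)
        map_mul' := fun a b => Units.ext (by
          rw [Units.val_mul, coe_dg, coe_dg, coe_dg, Matrix.diagonal_mul_diagonal]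
          rfl) }
    let g : (Fin 3 → Fˣ) →* Matrix.SpecialLinearGroup (Fin 4) F := (e.comp D.ι).comp f
    let K : Subgroup (Matrix.SpecialLinearGroup (Fin 4) F) := g.range
    have hK : IsPGroup 2 K := by
      refine IsPGroup.of_surjective ?_ g.rangeRestrict g.rangeRestrict_surjective
      intro x
      refine ⟨1, funext fun l => ?_⟩
      have h : ∀ u : Fˣ, u ^ 2 = 1 := fun u => by
        have := pow_card_eq_one (G := Fˣ) (x := u)
        rwa [Fintype.card_units, hq] at this
      exact h _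
    have hmod := hK.card_modEq_card_fixedPoints Ω
    rw [Nat.card_eq_fintype_card, hΩcard] at hmod
    obtain ⟨ω, hω⟩ : (MulAction.fixedPoints K Ω).Nonempty := by
      by_contra hne
      rw [Set.not_nonempty_iff_eq_empty] at hne
      rw [hne, Nat.card_coe_set_eq, Set.ncard_empty] at hmod
      exact absurd hmod (by decide)
    refine ⟨ω, fun k => hω ⟨_, ⟨sgn k, rfl⟩⟩⟩
  -- the translations act regularly
  have hreg : Function.Bijective fun v : Fin 3 → F => e (D.tH v) • ω := by
    rw [Fintype.bijective_iff_injective_and_card, hΩcard, Fintype.card_fun, hq, Fintype.card_fin]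
    refine ⟨fun v w hvw => ?_, by norm_num⟩
    by_contra hne
    refine hnf (D.tH (v - w)) (e (D.tH w) • ω) (tr_isTransvection (sub_ne_zero.2 hne)) ?_
    rw [← mul_smul, ← map_mul e, ← D.tH_add, sub_add_cancel]
    exact hvw
  let lift : GL (Fin 3) F → (Fin 3 → F) → Prop := fun A w => e (D.tH w * D.ι A) • ω = ω
  have hex : ∀ A, ∃ w, lift A w := fun A => by
    obtain ⟨w, hw⟩ := hreg.2 ω
    obtain ⟨x, hx⟩ := hreg.2 (e (D.ι A) • ω)
    refine ⟨-x, ?_⟩
    show e (D.tH (-x) * D.ι A) • ω = ω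
    beta_reduce at hx
    rw [map_mul, mul_smul, ← hx, ← mul_smul, ← map_mul, ← D.tH_add, neg_add_cancel, D.tH_zero, map_one, one_smul]
  have huniq : ∀ A w w', lift A w → lift A w' → w = w' := by
    intro A w w' h h'
    have h2 : e (D.tH (-w)) • ω = e (D.tH (-w')) • ω := by
      have k : ∀ z, lift A z → e (D.tH (-z)) • ω = e (D.ι A) • ω := fun z hz => by
        conv_lhs => rw [← hz]
        rw [← mul_smul, ← map_mul, ← mul_assoc, ← D.tH_add, neg_add_cancel, D.tH_zero, one_mul]
      rw [k w h, k w' h']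
    exact neg_injective (hreg.1 h2)
  have hmul : ∀ A B w u, GeneralLinearGroup.det A = 1 → lift A w → lift B u →
      lift (A * B) (w + u ᵥ* ((A⁻¹ : GL (Fin 3) F) : Matrix (Fin 3) (Fin 3) F)) := by
    intro A B w u hA hw hu
    show e _ • ω = ω
    have e1 : D.tH (w + u ᵥ* ((A⁻¹ : GL (Fin 3) F) : Matrix (Fin 3) (Fin 3) F)) * D.ι (A * B) =
        (D.tH w * D.ι A) * (D.tH u * D.ι B) := by
      have h := D.ι_conj A u
      rw [D.hδ A hA, Units.val_one, one_smul] at h
      rw [D.tH_add, map_mul, mul_assoc, ← mul_assoc (D.tH _) (D.ι A) (D.ι B), ← h]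
      simp only [mul_assoc]
    rw [e1, map_mul, mul_smul, hu, hw]
  have hsupp : ∀ (A : GL (Fin 3) F) (k : Fin 3), GeneralLinearGroup.det A = 1 → q k * A = A * q k →
      ∀ w, lift A w → ∀ l, l ≠ k → w l = 0 := by
    intro A k hA hcomm w hw l hl
    have hinv : (q k)⁻¹ = q k := by
      rw [inv_eq_iff_mul_eq_one]
      apply Units.ext
      rw [Units.val_mul, coe_dg, Matrix.diagonal_mul_diagonal, Units.val_one, ← Matrix.diagonal_one]
      congr 1; funext i
      by_cases hik : i = k <;> simp [sgn, hik]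
    have h' : lift A (w ᵥ* (q k : Matrix (Fin 3) (Fin 3) F)) := by
      show e _ • ω = ω
      have h := D.ι_conj (q k) w
      rw [D.hδ _ (hdetq k), Units.val_one, one_smul, hinv] at h
      have e1 : D.tH (w ᵥ* (q k : Matrix (Fin 3) (Fin 3) F)) * D.ι A = D.ι (q k) * (D.tH w * D.ι A) * D.ι (q k) := by
        rw [← mul_assoc, h, mul_assoc, mul_assoc, ← map_mul, ← map_mul, ← hcomm,
          ← mul_assoc (q k) (q k) A]
        rw [show q k * q k = 1 by nth_rw 2 [← hinv]; exact mul_inv_cancel _, one_mul]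
      rw [e1, map_mul, map_mul, mul_smul, hω, mul_smul, hw, hω]
    have h2 := congrFun (huniq A _ _ h' hw) l
    rw [coe_dg, Matrix.vecMul_diagonal] at h2
    simp only [sgn, hl, if_false, Units.val_neg, Units.val_one, mul_neg, mul_one] at h2
    have h2ne : (2 : F) ≠ 0 := Ring.two_ne_zero (by
      intro hc
      have hev := FiniteField.even_card_of_char_two hc
      rw [hq] at hev
      norm_num at hev)
    have : (2 : F) * w l = 0 := by linear_combination -h2
    exact (mul_eq_zero.1 this).resolve_left h2ne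
  set A : GL (Fin 3) F := root (i := (1 : Fin 3)) (j := 0) (by decide) 1 with hAdef
  set B : GL (Fin 3) F := root (i := (0 : Fin 3)) (j := 2) (by decide) 1 with hBdef
  set C : GL (Fin 3) F := root (i := (1 : Fin 3)) (j := 2) (by decide) 1 with hCdef
  obtain ⟨a, ha⟩ := hex A
  obtain ⟨b, hb⟩ := hex B
  obtain ⟨c, hc⟩ := hex C
  have hqc : ∀ (k i j : Fin 3) (h : i ≠ j) (x : F), sgn k i = sgn k j → q k * root h x = root h x * q k := by
    intro k i j h x hs
    rw [← mul_inv_eq_iff_eq_mul, dg_conj_root, hs, Units.mul_inv, one_mul]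
  have ha' := hsupp A 2 (det_root _ _) (hqc 2 1 0 (by decide) 1 (by simp [sgn])) a ha
  have hb' := hsupp B 1 (det_root _ _) (hqc 1 0 2 (by decide) 1 (by simp [sgn])) b hb
  have hc' := hsupp C 0 (det_root _ _) (hqc 0 1 2 (by decide) 1 (by simp [sgn])) c hc
  have hABC : A * B = C * B * A := by
    have h := root_bracket (F := F) (show (1 : Fin 3) ≠ 2 by decide) (show (1 : Fin 3) ≠ 0 by decide)
      (show (0 : Fin 3) ≠ 2 by decide) 1 1
    rw [one_mul, ← hAdef, ← hBdef, ← hCdef] at h
    rw [← h]; group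
  have hl1 := hmul A B a b (det_root _ _) ha hb
  have hl2 := hmul (C * B) A _ a (by rw [map_mul, det_root, det_root, one_mul]) (hmul C B c b (det_root _ _) hc hb) ha
  rw [← hABC] at hl2
  have heq := huniq _ _ _ hl1 hl2
  have hinvroot : ∀ {i j : Fin 3} (h : i ≠ j) (x : F), (root h x)⁻¹ = root h (-x) := fun h x =>
    inv_eq_of_mul_eq_one_right (by rw [← root_add, add_neg_cancel, root_zero])
  rw [_root_.mul_inv_rev, hinvroot, hinvroot, hinvroot, Units.val_mul, coe_root, coe_root, coe_root] at heq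
  have e0 := congrFun heq 0
  have e2 := congrFun heq 2
  simp [Matrix.vecMul, dotProduct, Matrix.mul_apply, Matrix.transvection, Matrix.single_apply, Matrix.one_apply,
    Fin.sum_univ_three, ha' 0 (by decide), ha' 1 (by decide), hb' 0 (by decide), hb' 2 (by decide),
    hc' 1 (by decide), hc' 2 (by decide)] at e0 e2
  have hc0 : c = 0 := by
    funext l
    fin_cases l
    · show c 0 = 0
      linear_combination -e0 - e2
    · exact hc' 1 (by decide)
    · exact hc' 2 (by decide)
  subst hc0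
  have hfixC : e (D.tH 0 * D.ι C) • ω = ω := hc
  rw [D.tH_zero, one_mul] at hfixC
  refine hnf (D.ι C) ω ?_ hfixC
  show Cfsg.IsTransvection (bl (D.δ C, C) : Matrix (Fin 4) (Fin 4) F)
  rw [D.hδ C (det_root _ _)]
  refine bl_isTransvection (u := Pi.single 1 1) (φ := Pi.single 2 1) ?_ (by simp) (by simp) (by simp)
  rw [hCdef, coe_root, Matrix.transvection]
  congr 1
  ext k l
  by_cases hk : k = 1 <;> by_cases hl : l = 2 <;> simp [vecMulVec_apply, hk, hl, Ne.symm]

end Cfsg.Agent.SimpleFacts.MinDeg
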