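import Cfsg.Agent.SimpleFacts.MinDeg.FiveTwo
import Mathlib

/-!
The lower bound for the degrees of the representations of `SL_n(q)` and `GL_n(q)`.
-/

set_option autoImplicit false
set_option linter.unusedSectionVars false

namespace Cfsg.Agent.SimpleFacts.MinDeg

open Matrix Module Cfsg.Agent.Characters

universe u w

variable {F : Type u} [Field F] [Fintype F]

theorem lamTrivial_gl {m : ℕ} {V : Type w} [AddCommGroup V] [Module ℂ V] [FiniteDimensional ℂ V] [DecidableEq F]
    (D : Setting F m V) (hδ1 : ∀ A, D.δ A = 1) (hq : Fintype.card F = 2 → 4 ≤ m) : D.LamTrivial := by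
  intro hrk i j h a ha haj c
  rcases eq_or_ne (Fintype.card F) 2 with h2 | h2
  · exact D.lam_trivial_two (hq h2) h2 hrk h ha haj c
  · exact D.lam_trivial_of_delta_one hδ1 (lt_of_le_of_ne Fintype.one_lt_card (Ne.symm h2)) h (hrk a ha) haj c

/-- `GL_3(4)`. -/
theorem low_two_four (hq : Fintype.card F = 4) : Low F 2 18 := by
  classical
  intro hm' η hne k hk
  obtain ⟨k', D, hδ, hirr, hk', ht, -⟩ := exists_glSetting le_rfl η
  haveI := hirr
  have hkk : k' = k := Nat.cast_injective (R := ℂ) (hk'.symm.trans hk)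
  subst hkk
  rcases D.dichotomy le_rfl (fun e => hne (by rw [ht, hk', ← e, finrank_fun])) with h | ⟨hrk, hD, hd, -⟩
  · rw [finrank_fun] at h
    have : T (Fintype.card F) 2 = 20 := by rw [hq]; rfl
    omega
  · have h2 := rk_ge_two D hrk (lamTrivial_gl D hδ (fun e => absurd (e.symm.trans hq) (by norm_num))) hD hd
    rw [finrank_fun, hq] at hd
    rw [hq] at h2
    omega

/-- The bound for one representation, from the bounds in smaller dimension. -/
theorem bound {m : ℕ} (hm : 2 ≤ m) {V : Type w} [AddCommGroup V] [Module ℂ V] [FiniteDimensional ℂ V]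
    [DecidableEq F] (D : Setting F m V) [D.ρ.IsIrreducible] (hnt : (finrank ℂ V : ℂ) ≠ D.tval hm)
    (h2 : m = 2 → Fintype.card F ≠ 2 ∧ Fintype.card F ≠ 4) (h3 : m = 3 → Fintype.card F ≠ 2)
    (hlam : D.LamTrivial)
    (IH : ∀ m', m = m' + 1 → 2 ≤ m' → (m' = 2 → Fintype.card F ≠ 2 ∧ Fintype.card F ≠ 4) →
      (m' = 3 → Fintype.card F ≠ 2) → Low F m' (T (Fintype.card F) m')) :
    T (Fintype.card F) m ≤ finrank ℂ V := by
  obtain ⟨q, hq⟩ : ∃ q, q = Fintype.card F := ⟨_, rfl⟩
  have hq2 : 2 ≤ q := hq ▸ Fintype.one_lt_card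
  rcases D.dichotomy hm hnt with h | ⟨hrk, hD, hd, hdvd⟩
  · exact h
  by_contra hlt
  push Not at hlt
  obtain ⟨m', rfl⟩ : ∃ m', m = m' + 1 := ⟨m - 1, by omega⟩
  rw [← hq] at hd hdvd hlt IH h2 h3
  have hTs : T q (m' + 1) = T q m' + q ^ (m' + 1) := T_succ q m'
  have h1 : 1 ≤ q ^ (m' + 1) := Nat.one_le_pow _ _ (by omega)
  rcases eq_or_ne m' 1 with rfl | hm1
  · -- dimension three
    have hr := rk_ge_two D hrk hlam hD (hq ▸ hd)
    rw [← hq] at hr
    obtain ⟨hne2, hne4⟩ := h2 rfl
    have hT2 : T q (1 + 1) = q + q ^ 2 := by simp [T, Finset.sum_range_succ]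
    have h12 : q ^ (1 + 1) = q ^ 2 := rfl
    rcases (show finrank ℂ V + 1 = T q (1 + 1) ∨ finrank ℂ V + 2 = q ^ 2 + q by omega) with e | e
    · exact pred_excluded hq2 (by omega) e hdvd
    · exact three_excluded (by omega) (hq ▸ FiniteField.isPrimePow_card F) hne4 e hdvd
  have hm'2 : 2 ≤ m' := by omega
  by_cases hA : m' = 2 ∧ q = 4
  · -- `SL_4(4)`
    obtain ⟨rfl, hq4⟩ := hA
    subst hq4
    have hr := rk_ge_of_low hm (low_two_four hq.symm) D hrk hlam hD (hq ▸ hd)
    have hT : T 4 (2 + 1) = 84 := rfl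
    have hdval : finrank ℂ V = D.rk 0 + 63 := hd
    have hcases : finrank ℂ V = 81 ∨ finrank ℂ V = 82 ∨ finrank ℂ V = 83 := by omega
    rcases hcases with e | e | e <;> rw [e] at hdvd <;> norm_num at hdvd
  by_cases hB : m' = 3 ∧ q = 2
  · -- `SL_5(2)`
    obtain ⟨rfl, hq2'⟩ := hB
    subst hq2'
    have hr := rk_ge_of_low hm (low_weak (F := F) (show 2 ≤ 3 by omega)) D hrk hlam hD (hq ▸ hd)
    rw [← hq] at hr
    have hT : T 2 (3 + 1) = 30 := rfl
    have hdval : finrank ℂ V = D.rk 0 + 15 := hd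
    have hcases : finrank ℂ V = 24 ∨ finrank ℂ V = 22 ∨ finrank ℂ V = 23 ∨ finrank ℂ V = 25 ∨
        finrank ℂ V = 26 ∨ finrank ℂ V = 27 ∨ finrank ℂ V = 28 ∨ finrank ℂ V = 29 := by omega
    rcases hcases with e | e | e | e | e | e | e | e
    · exact five_two hq.symm D hrk hlam hD (hq ▸ hd) (by omega)
    all_goals rw [e] at hdvd; norm_num at hdvd
  have hr := rk_ge_of_low hm (IH m' rfl hm'2
      (fun e => ⟨fun e' => h3 (by omega) e', fun e' => hA ⟨e, e'⟩⟩) (fun e e' => hB ⟨e, e'⟩))
    D hrk hlam hD (hq ▸ hd)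
  exact pred_excluded hq2 (by omega) (show finrank ℂ V + 1 = T q (m' + 1) by omega) hdvd

/-- The bound for the general linear group. -/
theorem low : ∀ m : ℕ, 2 ≤ m → (m = 2 → Fintype.card F ≠ 2 ∧ Fintype.card F ≠ 4) →
    (m = 3 → Fintype.card F ≠ 2) → Low F m (T (Fintype.card F) m) := by
  intro m
  induction m using Nat.strong_induction_on with
  | _ m ih =>
    intro hm h2 h3 hm' η hne k hk
    classical
    obtain ⟨k', D, hδ, hirr, hk', ht, -⟩ := exists_glSetting hm η
    haveI := hirr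
    have hkk : k' = k := Nat.cast_injective (R := ℂ) (hk'.symm.trans hk)
    subst hkk
    rw [← finrank_fun k']
    refine bound hm D (fun e => hne (by rw [ht, hk', ← e, finrank_fun])) h2 h3
      (lamTrivial_gl D hδ fun e => ?_) (fun m' e => ih m' (by omega))
    by_contra hlt
    rcases (show m = 2 ∨ m = 3 by omega) with r | r
    · exact (h2 r).1 e
    · exact h3 r e

/-- The inclusion of `SL_n` into `GL_n`, onto its range. -/
noncomputable def slEquiv (F : Type u) [Field F] (m : ℕ) :
    SpecialLinearGroup (Fin (m + 1)) F ≃*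
      (SpecialLinearGroup.toGL : SpecialLinearGroup (Fin (m + 1)) F →* GL (Fin (m + 1)) F).range :=
  MonoidHom.ofInjective Matrix.SpecialLinearGroup.toGL_injective

theorem mem_range_toGL {m : ℕ} {g : GL (Fin (m + 1)) F} (hg : GeneralLinearGroup.det g = 1) :
    g ∈ (SpecialLinearGroup.toGL : SpecialLinearGroup (Fin (m + 1)) F →* GL (Fin (m + 1)) F).range :=
  ⟨⟨g, congrArg Units.val hg⟩, Units.ext rfl⟩

/-- The special linear group as a setting. -/
noncomputable def slSetting {V : Type w} [AddCommGroup V] [Module ℂ V] {m : ℕ}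
    (ρ : Representation ℂ (Matrix.SpecialLinearGroup (Fin (m + 1)) F) V) : Setting F m V where
  H := (SpecialLinearGroup.toGL : SpecialLinearGroup (Fin (m + 1)) F →* GL (Fin (m + 1)) F).range
  hH := fun _ hg => mem_range_toGL hg
  δ := (GeneralLinearGroup.det (n := Fin m) (R := F))⁻¹
  hδ := fun A hA => by rw [MonoidHom.inv_apply, hA, inv_one]
  hmem := fun A => mem_range_toGL (by rw [det_bl, MonoidHom.inv_apply, inv_mul_cancel])
  ψ := Classical.choose (exists_addChar F)
  hψ := Classical.choose_spec (exists_addChar F)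
  ρ := ρ.comp (slEquiv F m).symm.toMonoidHom

theorem slSetting_irreducible {V : Type w} [AddCommGroup V] [Module ℂ V] {m : ℕ}
    (ρ : Representation ℂ (Matrix.SpecialLinearGroup (Fin (m + 1)) F) V) [ρ.IsIrreducible] :
    (slSetting ρ).ρ.IsIrreducible :=
  isIrreducible_comp ρ _ (slEquiv F m).symm.surjective

theorem slSetting_character {V : Type w} [AddCommGroup V] [Module ℂ V] {m : ℕ}
    (ρ : Representation ℂ (Matrix.SpecialLinearGroup (Fin (m + 1)) F) V)
    (g : Matrix.SpecialLinearGroup (Fin (m + 1)) F) :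
    (slSetting ρ).ρ.character (slEquiv F m g) = ρ.character g := by
  show LinearMap.trace ℂ V (ρ ((slEquiv F m).symm (slEquiv F m g))) = _
  rw [MulEquiv.symm_apply_apply]
  rfl

/-- An irreducible representation of degree at least two moves the transvections. -/
theorem slSetting_nt {m k : ℕ} (hm : 2 ≤ m)
    (ρ : Representation ℂ (Matrix.SpecialLinearGroup (Fin (m + 1)) F) (Fin k → ℂ)) (hirr : ρ.IsIrreducible)
    (hk : 2 ≤ k) : (finrank ℂ (Fin k → ℂ) : ℂ) ≠ (slSetting ρ).tval hm := by
  intro hnt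
  have hall : ∀ g, ρ g = LinearMap.id := by
    intro g
    have hg : g ∈ (⊤ : Subgroup (Matrix.SpecialLinearGroup (Fin (m + 1)) F)) := Subgroup.mem_top g
    rw [← Classical.Linear.closure_transvectionSet] at hg
    induction hg using Subgroup.closure_induction with
    | mem x hx =>
      obtain ⟨i, j, hij, c, rfl⟩ := hx
      rcases eq_or_ne c 0 with rfl | hc
      · rw [show SpecialLinearGroup.transvection hij (0 : F) = 1 by simp, map_one]; rfl
      · have h := (slSetting ρ).rho_eq_one_of_mult_zero hm (sub_eq_zero.2 hnt)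
          (h := slEquiv F m (SpecialLinearGroup.transvection hij c)) (root_isTransvection hij hc)
        change ρ ((slEquiv F m).symm (slEquiv F m _)) = _ at h
        rwa [MulEquiv.symm_apply_apply] at h
    | one => rw [map_one]; rfl
    | mul x y _ _ hx hy => rw [map_mul, hx, hy]; rfl
    | inv x _ hx =>
      have e : ρ x⁻¹ * ρ x = 1 := by rw [← map_mul, inv_mul_cancel, map_one]
      rw [hx] at e
      exact e
  obtain ⟨-, hU⟩ := (Cfsg.Agent.Characters.isIrreducible_iff ρ).1 hirr
  set v : Fin k → ℂ := Pi.single ⟨0, by omega⟩ 1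
  rcases hU (ℂ ∙ v) (fun g w hw => by rw [hall g]; exact hw) with e | e
  · rw [Submodule.span_singleton_eq_bot] at e
    simpa [v] using congrFun e ⟨0, by omega⟩
  · have := finrank_span_singleton (K := ℂ) (v := v) (by simp [v])
    rw [e, finrank_top, finrank_fun] at this
    omega

/-- The lower bound for `SL_n`. -/
theorem special_linear {n k : ℕ} (hn : 3 ≤ n)
    (hex : (n, Fintype.card F) ≠ (3, 2) ∧ (n, Fintype.card F) ≠ (3, 4) ∧ (n, Fintype.card F) ≠ (4, 2) ∧
      (n, Fintype.card F) ≠ (4, 3))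
    (ρ : Representation ℂ (Matrix.SpecialLinearGroup (Fin n) F) (Fin k → ℂ)) (hirr : ρ.IsIrreducible)
    (hk : 2 ≤ k) : T (Fintype.card F) (n - 1) ≤ k := by
  classical
  obtain ⟨m, rfl⟩ : ∃ m, n = m + 1 := ⟨n - 1, by omega⟩
  rw [Nat.add_sub_cancel]
  simp only [ne_eq, Prod.mk.injEq, not_and] at hex
  obtain ⟨x32, x34, x42, x43⟩ := hex
  have hm : 2 ≤ m := by omega
  haveI := hirr
  haveI := slSetting_irreducible ρ
  set D := slSetting ρ with hDdef
  rw [← finrank_fun k]
  refine bound hm D (slSetting_nt hm ρ hirr hk) (fun e => ⟨x32 (by omega), x34 (by omega)⟩)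
    (fun e => x42 (by omega)) ?_ (fun m' _ => low m')
  intro hrk i j h a ha haj c
  rcases eq_or_ne (Fintype.card F) 2 with h2 | h2
  · refine D.lam_trivial_two ?_ h2 hrk h ha haj c
    by_contra hlt
    rcases (show m = 2 ∨ m = 3 by omega) with r | r
    · exact x32 (by omega) h2
    · exact x42 (by omega) h2
  · refine D.lam_trivial_of_delta_det (fun A => ?_) (lt_of_le_of_ne Fintype.one_lt_card (Ne.symm h2))
      (fun e => ?_) (fun e => x43 (by omega)) hrk h ha haj c
    · simp [D, slSetting]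
    · obtain ⟨u, hu⟩ := IsCyclic.exists_generator (α := Fˣ)
      refine ⟨u, u.ne_zero, fun e3 => ?_⟩
      have h1 : orderOf u = Fintype.card F - 1 := by
        rw [orderOf_eq_card_of_forall_mem_zpowers hu, Classical.Linear.natCard_units_eq]
      have h3 : orderOf u ∣ 3 :=
        orderOf_dvd_of_pow_eq_one (Units.ext (by rw [Units.val_pow_eq_pow_val, e3, Units.val_one]))
      have := Fintype.one_lt_card (α := F)
      have := x34 (by omega)
      rcases (Nat.dvd_prime Nat.prime_three).1 h3 with r | r <;> omega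

end Cfsg.Agent.SimpleFacts.MinDeg
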