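import Cfsg.Agent.Lib.Classical.TransvectionGL
import Cfsg.Agent.Lib.Classical.Linear
import Mathlib

/-!
The parabolic subgroup fixing the first point: the translations, the block subgroup, and the class of
transvections.
-/

set_option autoImplicit false
set_option linter.unusedSectionVars false

namespace Cfsg.Agent.SimpleFacts.MinDeg

open Matrix

universe u

variable {F : Type u} [Field F] {m : ℕ}

/-- The matrix with first row `(t, v)` and lower block `A`. -/
def affM (t : F) (v : Fin m → F) (A : Matrix (Fin m) (Fin m) F) : Matrix (Fin (m + 1)) (Fin (m + 1)) F :=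
  Matrix.of (Fin.cases (Fin.cases t v) fun i => Fin.cases 0 fun j => A i j)

@[simp] theorem affM_zero_zero (t : F) (v : Fin m → F) (A : Matrix (Fin m) (Fin m) F) : affM t v A 0 0 = t := rfl

@[simp] theorem affM_zero_succ (t : F) (v : Fin m → F) (A : Matrix (Fin m) (Fin m) F) (j : Fin m) :
    affM t v A 0 j.succ = v j := by simp [affM]

@[simp] theorem affM_succ_zero (t : F) (v : Fin m → F) (A : Matrix (Fin m) (Fin m) F) (i : Fin m) :
    affM t v A i.succ 0 = 0 := by simp [affM]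

@[simp] theorem affM_succ_succ (t : F) (v : Fin m → F) (A : Matrix (Fin m) (Fin m) F) (i j : Fin m) :
    affM t v A i.succ j.succ = A i j := by simp [affM]

theorem affM_mul (t t' : F) (v v' : Fin m → F) (A A' : Matrix (Fin m) (Fin m) F) :
    affM t v A * affM t' v' A' = affM (t * t') (t • v' + v ᵥ* A') (A * A') := by
  ext i j
  rw [Matrix.mul_apply, Fin.sum_univ_succ]
  refine Fin.cases ?_ (fun i => ?_) i <;> refine Fin.cases ?_ (fun j => ?_) j <;>
    simp [Matrix.vecMul, dotProduct, Matrix.mul_apply]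

theorem affM_one : affM 1 (0 : Fin m → F) 1 = 1 := by
  ext i j
  refine Fin.cases ?_ (fun i => ?_) i <;> refine Fin.cases ?_ (fun j => ?_) j <;>
    simp [Matrix.one_apply, Fin.succ_ne_zero, (Fin.succ_ne_zero _).symm]

theorem det_affM (t : F) (v : Fin m → F) (A : Matrix (Fin m) (Fin m) F) : (affM t v A).det = t * A.det := by
  rw [Matrix.det_succ_column_zero, Fin.sum_univ_succ]
  have h : (affM t v A).submatrix Fin.succ Fin.succ = A := by
    ext i j; simp
  simp [h]

/-- The block subgroup. -/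
def bl : Fˣ × GL (Fin m) F →* GL (Fin (m + 1)) F where
  toFun p := ⟨affM (p.1 : F) 0 (p.2 : Matrix (Fin m) (Fin m) F),
    affM ((p.1⁻¹ : Fˣ) : F) 0 ((p.2⁻¹ : GL (Fin m) F) : Matrix (Fin m) (Fin m) F),
    by rw [affM_mul]; simp [affM_one],
    by rw [affM_mul]; simp [affM_one]⟩
  map_one' := Units.ext affM_one
  map_mul' p p' := Units.ext (by
    change affM _ _ _ = affM _ _ _ * affM _ _ _
    rw [affM_mul]
    simp)

theorem coe_bl (p : Fˣ × GL (Fin m) F) :
    (bl p : Matrix (Fin (m + 1)) (Fin (m + 1)) F) = affM (p.1 : F) 0 (p.2 : Matrix (Fin m) (Fin m) F) := rfl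

theorem det_bl (p : Fˣ × GL (Fin m) F) :
    GeneralLinearGroup.det (bl p) = p.1 * GeneralLinearGroup.det p.2 := by
  apply Units.ext
  simp [coe_bl, det_affM]

/-- The translations. -/
def tr (v : Fin m → F) : GL (Fin (m + 1)) F :=
  ⟨affM 1 v 1, affM 1 (-v) 1, by rw [affM_mul]; simp [affM_one], by rw [affM_mul]; simp [affM_one]⟩

theorem coe_tr (v : Fin m → F) : (tr v : Matrix (Fin (m + 1)) (Fin (m + 1)) F) = affM 1 v 1 := rfl

theorem det_tr (v : Fin m → F) : GeneralLinearGroup.det (tr v) = 1 := by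
  apply Units.ext
  simp [coe_tr, det_affM]

theorem tr_add (v w : Fin m → F) : tr (v + w) = tr v * tr w := by
  apply Units.ext
  rw [Units.val_mul, coe_tr, coe_tr, coe_tr, affM_mul]
  simp [add_comm]

theorem tr_zero : tr (0 : Fin m → F) = 1 := Units.ext affM_one

theorem bl_conj_tr (p : Fˣ × GL (Fin m) F) (v : Fin m → F) :
    bl p * tr v = tr ((p.1 : F) • (v ᵥ* ((p.2⁻¹ : GL (Fin m) F) : Matrix (Fin m) (Fin m) F))) * bl p := by
  apply Units.ext
  rw [Units.val_mul, Units.val_mul, coe_tr, coe_tr, coe_bl, affM_mul, affM_mul]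
  simp [Matrix.smul_vecMul, Matrix.vecMul_vecMul]

/-! ### Transvections -/

theorem isTransvection_iff (g : GL (Fin (m + 1)) F) :
    Cfsg.IsTransvection (g : Matrix (Fin (m + 1)) (Fin (m + 1)) F) ↔
      ((g : Matrix (Fin (m + 1)) (Fin (m + 1)) F) - 1).rank = 1 ∧
      ((g : Matrix (Fin (m + 1)) (Fin (m + 1)) F) - 1) * ((g : Matrix (Fin (m + 1)) (Fin (m + 1)) F) - 1) = 0 :=
  Iff.rfl

theorem tr_isTransvection {v : Fin m → F} (hv : v ≠ 0) :
    Cfsg.IsTransvection (tr v : Matrix (Fin (m + 1)) (Fin (m + 1)) F) := by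
  have h : (tr v : Matrix (Fin (m + 1)) (Fin (m + 1)) F) - 1 = vecMulVec (Pi.single 0 1) (Fin.cons 0 v) := by
    rw [coe_tr, ← affM_one]
    ext i j
    refine Fin.cases ?_ (fun i => ?_) i <;> refine Fin.cases ?_ (fun j => ?_) j <;>
      simp [vecMulVec_apply]
  rw [isTransvection_iff, h]
  refine ⟨Cfsg.Agent.Classical.TransvectionGL.rank_vecMulVec_eq_one (by simp) (fun e => hv ?_), ?_⟩
  · funext j
    have := congrFun e j.succ
    simpa using this
  · rw [vecMulVec_mul_vecMulVec]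
    simp [dotProduct, Fin.sum_univ_succ]

theorem bl_isTransvection {A : GL (Fin m) F} {u φ : Fin m → F} (hA : (A : Matrix (Fin m) (Fin m) F) = 1 + vecMulVec u φ)
    (hu : u ≠ 0) (hφ : φ ≠ 0) (h0 : φ ⬝ᵥ u = 0) :
    Cfsg.IsTransvection (bl (1, A) : Matrix (Fin (m + 1)) (Fin (m + 1)) F) := by
  have h : (bl (1, A) : Matrix (Fin (m + 1)) (Fin (m + 1)) F) - 1 = vecMulVec (Fin.cons 0 u) (Fin.cons 0 φ) := by
    rw [coe_bl, ← affM_one, hA]
    ext i j
    refine Fin.cases ?_ (fun i => ?_) i <;> refine Fin.cases ?_ (fun j => ?_) j <;>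
      simp [vecMulVec_apply, affM_one, Matrix.one_apply, Fin.succ_ne_zero, (Fin.succ_ne_zero _).symm]
  rw [isTransvection_iff, h]
  refine ⟨Cfsg.Agent.Classical.TransvectionGL.rank_vecMulVec_eq_one (fun e => hu ?_) (fun e => hφ ?_), ?_⟩
  · funext j; have := congrFun e j.succ; simpa using this
  · funext j; have := congrFun e j.succ; simpa using this
  · rw [vecMulVec_mul_vecMulVec]
    have h0' : ∑ i, φ i * u i = 0 := h0
    simp [dotProduct, Fin.sum_univ_succ, h0']

theorem conj_isTransvection {s : GL (Fin (m + 1)) F} (hs : Cfsg.IsTransvection (s : Matrix (Fin (m + 1)) (Fin (m + 1)) F))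
    (g : GL (Fin (m + 1)) F) :
    Cfsg.IsTransvection ((g * s * g⁻¹ : GL (Fin (m + 1)) F) : Matrix (Fin (m + 1)) (Fin (m + 1)) F) := by
  rw [isTransvection_iff] at hs ⊢
  have h : ((g * s * g⁻¹ : GL (Fin (m + 1)) F) : Matrix (Fin (m + 1)) (Fin (m + 1)) F) - 1 =
      (g : Matrix (Fin (m + 1)) (Fin (m + 1)) F) * ((s : Matrix (Fin (m + 1)) (Fin (m + 1)) F) - 1) *
        ((g⁻¹ : GL (Fin (m + 1)) F) : Matrix (Fin (m + 1)) (Fin (m + 1)) F) := by
    rw [mul_sub, sub_mul, mul_one, Units.val_mul, Units.val_mul, Units.mul_inv]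
  rw [h]
  constructor
  · rw [Matrix.rank_mul_eq_left_of_isUnit_det _ _
      ((Matrix.isUnit_iff_isUnit_det _).1 (g⁻¹).isUnit), Matrix.rank_mul_eq_right_of_isUnit_det _ _
      ((Matrix.isUnit_iff_isUnit_det _).1 g.isUnit)]
    exact hs.1
  · rw [mul_assoc, ← mul_assoc ((g⁻¹ : GL (Fin (m + 1)) F) : Matrix (Fin (m + 1)) (Fin (m + 1)) F),
      ← mul_assoc ((g⁻¹ : GL (Fin (m + 1)) F) : Matrix (Fin (m + 1)) (Fin (m + 1)) F), Units.inv_mul, one_mul,
      ← mul_assoc, mul_assoc (g : Matrix (Fin (m + 1)) (Fin (m + 1)) F), hs.2, mul_zero, zero_mul]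

/-- For `m ≥ 2` all transvections are conjugate by elements of determinant one. -/
theorem exists_conj {m : ℕ} (hm : 2 ≤ m) {s : GL (Fin (m + 1)) F}
    (hs : Cfsg.IsTransvection (s : Matrix (Fin (m + 1)) (Fin (m + 1)) F)) :
    ∃ g : GL (Fin (m + 1)) F, GeneralLinearGroup.det g = 1 ∧
      g * tr (Pi.single (⟨0, by omega⟩ : Fin m) 1) * g⁻¹ = s := by
  classical
  set i₀ : Fin m := ⟨0, by omega⟩
  set i₁ : Fin m := ⟨1, by omega⟩
  obtain ⟨g, hg⟩ := Cfsg.Agent.Classical.TransvectionGL.isConj_of_transvection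
    (tr_isTransvection (v := Pi.single i₀ (1 : F)) (by simp)) hs
  set r := (GeneralLinearGroup.det g)⁻¹
  let d : Fin m → F := Function.update (fun _ => (1 : F)) i₁ r
  have hd : (Matrix.diagonal d).det = (r : F) := by
    rw [Matrix.det_diagonal, Finset.prod_update_of_mem (Finset.mem_univ _)]
    simp
  let D : GL (Fin m) F := GeneralLinearGroup.mkOfDetNeZero (Matrix.diagonal d) (by rw [hd]; exact r.ne_zero)
  refine ⟨g * bl (1, D), ?_, ?_⟩
  · rw [map_mul, det_bl, one_mul]
    apply Units.ext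
    show (GeneralLinearGroup.det g : F) * (Matrix.diagonal d).det = 1
    rw [hd]
    exact Units.mul_inv _
  · have hfix : (Pi.single i₀ 1 : Fin m → F) ᵥ* ((D⁻¹ : GL (Fin m) F) : Matrix (Fin m) (Fin m) F) =
        Pi.single i₀ 1 := by
      have e : (Pi.single i₀ 1 : Fin m → F) ᵥ* (D : Matrix (Fin m) (Fin m) F) = Pi.single i₀ 1 := by
        show (Pi.single i₀ 1 : Fin m → F) ᵥ* Matrix.diagonal d = _
        funext j
        rw [Matrix.vecMul_diagonal]
        by_cases hj : j = i₀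
        · subst hj; simp [d, i₀, i₁, Function.update_of_ne]
        · simp [hj]
      nth_rw 1 [← e]
      rw [Matrix.vecMul_vecMul, Units.mul_inv, Matrix.vecMul_one]
    have hc : bl (1, D) * tr (Pi.single i₀ 1) * (bl (1, D))⁻¹ = tr (Pi.single i₀ 1) := by
      rw [bl_conj_tr, mul_inv_cancel_right]
      simp only [Units.val_one, one_smul, hfix]
    rw [show g * bl (1, D) * tr (Pi.single i₀ 1) * (g * bl (1, D))⁻¹ =
      g * (bl (1, D) * tr (Pi.single i₀ 1) * (bl (1, D))⁻¹) * g⁻¹ by group, hc, hg]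

theorem transvection_det {m : ℕ} (hm : 2 ≤ m) {s : GL (Fin (m + 1)) F}
    (hs : Cfsg.IsTransvection (s : Matrix (Fin (m + 1)) (Fin (m + 1)) F)) : GeneralLinearGroup.det s = 1 := by
  obtain ⟨g, hg, rfl⟩ := exists_conj hm hs
  rw [map_mul, map_mul, map_inv, hg, det_tr]
  simp

variable [Fintype F]

/-- The number of transvections in a group containing all elements of determinant one. -/
theorem natCard_transvections {m : ℕ} (hm : 2 ≤ m) (H : Subgroup (GL (Fin (m + 1)) F))
    (hH : ∀ g, GeneralLinearGroup.det g = 1 → g ∈ H) :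
    Nat.card {h : H // Cfsg.IsTransvection ((h : GL (Fin (m + 1)) F) : Matrix (Fin (m + 1)) (Fin (m + 1)) F)} *
      (Fintype.card F - 1) = (Fintype.card F ^ (m + 1) - 1) * (Fintype.card F ^ m - 1) := by
  classical
  have h := Cfsg.Agent.Classical.TransvectionGL.natCard_rankOne (F := F) (n := m + 1) (by omega)
  rw [Nat.add_sub_cancel] at h
  rw [← h]
  congr 1
  let toGL : {M : Matrix (Fin (m + 1)) (Fin (m + 1)) F // M.rank = 1 ∧ M * M = 0} → GL (Fin (m + 1)) F :=
    fun M => ⟨1 + M.1, 1 - M.1, by rw [add_mul, one_mul, mul_sub, mul_one, M.2.2]; abel,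
      by rw [sub_mul, one_mul, mul_add, mul_one, M.2.2]; abel⟩
  have hT : ∀ M, Cfsg.IsTransvection (toGL M : Matrix (Fin (m + 1)) (Fin (m + 1)) F) := fun M => by
    rw [isTransvection_iff]
    simp only [toGL, add_sub_cancel_left]
    exact M.2
  exact Nat.card_congr
    { toFun := fun h => ⟨((h.1 : GL (Fin (m + 1)) F) : Matrix (Fin (m + 1)) (Fin (m + 1)) F) - 1, h.2⟩
      invFun := fun M => ⟨⟨toGL M, hH _ (transvection_det hm (hT M))⟩, hT M⟩
      left_inv := fun h => Subtype.ext (Subtype.ext (Units.ext (add_sub_cancel 1 _)))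
      right_inv := fun M => Subtype.ext (add_sub_cancel_left 1 M.1) }

end Cfsg.Agent.SimpleFacts.MinDeg
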