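import Mathlib

/-!
The numerical part of the lower bound for the degrees of the representations of `SL_n(q)`.
-/

set_option autoImplicit false

namespace Cfsg.Agent.SimpleFacts.MinDeg

/-- `q + q ^ 2 + ⋯ + q ^ m`. -/
def T (q m : ℕ) : ℕ := ∑ i ∈ Finset.range m, q ^ (i + 1)

theorem T_succ (q m : ℕ) : T q (m + 1) = T q m + q ^ (m + 1) := Finset.sum_range_succ _ _

theorem T_mul (q m : ℕ) : T q m * q + q = T q m + q ^ (m + 1) := by
  induction m with
  | zero => simp [T]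
  | succ m ih =>
    rw [T_succ, add_mul, ← pow_succ]
    linarith

theorem T_eq_div {q : ℕ} (hq : 2 ≤ q) (m : ℕ) : T q m = (q ^ (m + 1) - q) / (q - 1) := by
  have h := T_mul q m
  have hmul : T q m * (q - 1) = q ^ (m + 1) - q := by
    rw [Nat.mul_sub, mul_one]
    omega
  rw [← hmul, Nat.mul_div_cancel _ (by omega)]

theorem T_le_double {q m : ℕ} (hq : 2 ≤ q) : T q m ≤ 2 * (q ^ m - 1) := by
  induction m with
  | zero => simp [T]
  | succ m ih =>
    rw [T_succ]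
    have h1 : 1 ≤ q ^ m := Nat.one_le_pow _ _ (by omega)
    have h2 : q ^ m * 2 ≤ q ^ (m + 1) := by rw [pow_succ]; exact Nat.mul_le_mul_left _ hq
    omega

theorem geom (q m : ℕ) : ∃ N, T q m = q * N ∧ q ^ m = (q - 1) * N + 1 ∨ q = 0 := by
  rcases Nat.eq_zero_or_pos q with h | h
  · exact ⟨0, Or.inr h⟩
  refine ⟨∑ i ∈ Finset.range m, q ^ i, Or.inl ⟨?_, ?_⟩⟩
  · rw [T, Finset.mul_sum]
    exact Finset.sum_congr rfl fun i _ => pow_succ' q i
  · induction m with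
    | zero => simp
    | succ m ih =>
      rw [Finset.sum_range_succ, mul_add, pow_succ, add_right_comm, ← ih]
      obtain ⟨r, rfl⟩ : ∃ r, q = r + 1 := ⟨q - 1, by omega⟩
      rw [Nat.add_sub_cancel]
      ring

/-- One less than the bound is impossible. -/
theorem pred_excluded {q m : ℕ} (hq : 2 ≤ q) (hm : 2 ≤ m) {D : ℕ} (hD : D + 1 = T q m)
    (hdvd : D * (q - 1) ∣ (q ^ (m + 1) - 1) * (q ^ m - 1) * q ^ m) : False := by
  obtain ⟨N, hN | hN⟩ := geom q m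
  swap; · omega
  obtain ⟨hT, hpow⟩ := hN
  have hq1 : q ^ (m + 1) - 1 = (q - 1) * (D + 2) := by
    have h := T_mul q m
    rw [← hD] at h
    obtain ⟨r, rfl⟩ : ∃ r, q = r + 1 := ⟨q - 1, by omega⟩
    rw [Nat.add_sub_cancel]
    have e : (D + 1) * (r + 1) + (r + 1) = (D + 1) + (r * (D + 2) + 1) := by ring
    omega
  have h1 : D ∣ (D + 2) * ((q - 1) * N) * q ^ m := by
    refine Nat.dvd_of_mul_dvd_mul_right (by omega : 0 < q - 1) ?_
    refine hdvd.trans (dvd_of_eq ?_)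
    rw [hq1, show q ^ m - 1 = (q - 1) * N by omega]
    ring
  have hcq : D.Coprime q := by
    have hg : D.gcd q ∣ D + 1 := by rw [hD, hT]; exact (Nat.gcd_dvd_right D q).mul_right N
    have : D.gcd q ∣ 1 := (Nat.dvd_add_right (Nat.gcd_dvd_left D q)).1 hg
    exact Nat.dvd_one.1 this
  have hcN : D.Coprime N := by
    have hg : D.gcd N ∣ D + 1 := by rw [hD, hT]; exact (Nat.gcd_dvd_right D N).mul_left q
    have : D.gcd N ∣ 1 := (Nat.dvd_add_right (Nat.gcd_dvd_left D N)).1 hg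
    exact Nat.dvd_one.1 this
  have h2 : D ∣ (D + 2) * ((q - 1) * N) := (hcq.pow_right m).dvd_of_dvd_mul_right h1
  rw [← mul_assoc] at h2
  have h3 : D ∣ (D + 2) * (q - 1) := hcN.dvd_of_dvd_mul_right h2
  rw [add_mul] at h3
  have h4 : D ∣ 2 * (q - 1) := (Nat.dvd_add_right (Dvd.intro _ rfl)).1 h3
  have h5 := Nat.le_of_dvd (by omega) h4
  have hbig : q ^ 2 + q ≤ T q m := by
    obtain ⟨j, rfl⟩ : ∃ j, m = j + 2 := ⟨m - 2, by omega⟩
    have : T q 2 ≤ T q (j + 2) := Finset.sum_le_sum_of_subset (by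
      intro i hi; simp only [Finset.mem_range] at hi ⊢; omega)
    simp [T, Finset.sum_range_succ] at this ⊢
    omega
  have : 2 * q ≤ q ^ 2 := by nlinarith
  omega

/-- Two less than the bound is impossible in dimension three. -/
theorem three_excluded {q : ℕ} (hq : 3 ≤ q) (hpp : IsPrimePow q) (h4 : q ≠ 4) {D : ℕ} (hD : D + 2 = q ^ 2 + q)
    (hdvd : D * (q - 1) ∣ (q ^ 3 - 1) * (q ^ 2 - 1) * q ^ 2) : False := by
  obtain ⟨r, rfl⟩ : ∃ r, q = r + 1 := ⟨q - 1, by omega⟩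
  have e1 : (r + 1) ^ 2 + (r + 1) = r * (r + 3) + 2 := by ring
  have e2 : (r + 1) ^ 2 - 1 = r * (r + 2) := by
    have : (r + 1) ^ 2 = r * (r + 2) + 1 := by ring
    omega
  have e3 : (r + 1) ^ 3 - 1 = r * (r ^ 2 + 3 * r + 3) := by
    have : (r + 1) ^ 3 = r * (r ^ 2 + 3 * r + 3) + 1 := by ring
    omega
  have eD : D = r * (r + 3) := by omega
  rw [eD, e2, e3, Nat.add_sub_cancel] at hdvd
  have h1 : r + 3 ∣ (r ^ 2 + 3 * r + 3) * (r + 2) * (r + 1) ^ 2 := by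
    refine Nat.dvd_of_mul_dvd_mul_left (Nat.mul_pos (by omega : 0 < r) (by omega : 0 < r)) ?_
    refine (dvd_of_eq ?_).trans (hdvd.trans (dvd_of_eq ?_)) <;> ring
  have hmod : ((r ^ 2 + 3 * r + 3) * (r + 2) * (r + 1) ^ 2 : ℤ) + 12 =
      ((r : ℤ) + 3) * ((r : ℤ) ^ 4 + 4 * r ^ 3 + 8 * r ^ 2 + 5 * r + 6) + 0 := by ring
  have h12 : ((r + 3 : ℕ) : ℤ) ∣ 12 := by
    have hz : ((r + 3 : ℕ) : ℤ) ∣ (r ^ 2 + 3 * r + 3) * (r + 2) * (r + 1) ^ 2 := by exact_mod_cast h1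
    refine (dvd_add_right hz).1 ?_
    rw [hmod, add_zero]
    push_cast
    exact Dvd.intro _ rfl
  have h12' : r + 3 ∣ 12 := by exact_mod_cast h12
  have hle := Nat.le_of_dvd (by norm_num) h12'
  have : r + 1 = 10 := by
    have hr : r ≤ 9 := by omega
    interval_cases r <;> simp_all
  rw [this] at hpp
  have h25 : (10 : ℕ).primeFactors.card = 1 := by
    obtain ⟨p, k, hp, hk, e⟩ := (isPrimePow_nat_iff _).1 hpp
    rw [← e, Nat.primeFactors_prime_pow hk.ne' hp, Finset.card_singleton]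
  have h2 : (2 : ℕ) ∈ (10 : ℕ).primeFactors := Nat.mem_primeFactors.2 ⟨Nat.prime_two, by norm_num, by norm_num⟩
  have h5 : (5 : ℕ) ∈ (10 : ℕ).primeFactors := Nat.mem_primeFactors.2 ⟨Nat.prime_five, by norm_num, by norm_num⟩
  obtain ⟨x, hx⟩ := Finset.card_eq_one.1 h25
  rw [hx, Finset.mem_singleton] at h2 h5
  omega

end Cfsg.Agent.SimpleFacts.MinDeg
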