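import Cfsg.Agent.SimpleFacts.MinDeg.Lambda
import Cfsg.Agent.SimpleFacts.MinDeg.Arith
import Mathlib

/-!
The lower bound for one irreducible representation, given the bounds one dimension down.
-/

set_option autoImplicit false
set_option linter.unusedSectionVars false

namespace Cfsg.Agent.SimpleFacts.MinDeg

open Matrix Module Cfsg.Agent.Characters

universe u v w

theorem exists_constituents {G : Type u} [Group G] [Fintype G] [Fintype (Cfsg.IrrCharacter G)] {f : G → ℂ}
    (hf : Cfsg.IsCharacter G f) :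
    ∃ c : Cfsg.IrrCharacter G → ℕ, ∀ g, f g = ∑ χ : Cfsg.IrrCharacter G, (c χ : ℂ) * (χ : G → ℂ) g := by
  choose c hc using fun χ : Cfsg.IrrCharacter G => classInner_char_nat hf (irr_isCharacter χ)
  refine ⟨c, fun g => ?_⟩
  conv_lhs => rw [classFun_eq_sum (char_isClassFunction hf)]
  rw [Finset.sum_apply]
  simp only [Pi.smul_apply, smul_eq_mul, hc]

theorem isIrreducible_comp {G : Type u} {H : Type v} [Group G] [Group H] {V : Type w} [AddCommGroup V] [Module ℂ V]
    (ρ : Representation ℂ G V) [ρ.IsIrreducible] (f : H →* G) (hf : Function.Surjective f) :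
    Representation.IsIrreducible (ρ.comp f : Representation ℂ H V) := by
  rw [Cfsg.Agent.Characters.isIrreducible_iff]
  refine ⟨nontrivial_of_isIrreducible ρ, fun U hU => ((Cfsg.Agent.Characters.isIrreducible_iff ρ).1 inferInstance).2 U fun g v hv => ?_⟩
  obtain ⟨x, rfl⟩ := hf g
  exact hU x v hv

variable {F : Type u} [Field F] [Fintype F] {m : ℕ}

theorem root_isTransvection {i j : Fin (m + 1)} (h : i ≠ j) {c : F} (hc : c ≠ 0) :
    Cfsg.IsTransvection (root h c : Matrix (Fin (m + 1)) (Fin (m + 1)) F) := by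
  have e : (root h c : Matrix (Fin (m + 1)) (Fin (m + 1)) F) - 1 = vecMulVec (Pi.single i c) (Pi.single j 1) := by
    rw [coe_root, Matrix.transvection, add_sub_cancel_left]
    ext k l
    by_cases hk : k = i <;> by_cases hl : l = j <;> simp [vecMulVec_apply, hk, hl, Matrix.single_apply, Ne.symm]
  rw [isTransvection_iff, e]
  refine ⟨Cfsg.Agent.Classical.TransvectionGL.rank_vecMulVec_eq_one (by simpa using hc) (by simp), ?_⟩
  rw [vecMulVec_mul_vecMulVec]
  simp [h]

/-- The first standard transvection. -/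
def root01 {n : ℕ} (hn : 2 ≤ n) (c : F) : GL (Fin n) F :=
  root (i := ⟨0, by omega⟩) (j := ⟨1, by omega⟩) (by simp) c

variable (F)

/-- The general linear group as a setting. -/
noncomputable def glSetting {V : Type w} [AddCommGroup V] [Module ℂ V] (m : ℕ)
    (ρ : Representation ℂ (GL (Fin (m + 1)) F) V) : Setting F m V where
  H := ⊤
  hH := fun _ _ => trivial
  δ := 1
  hδ := fun _ _ => rfl
  hmem := fun _ => trivial
  ψ := Classical.choose (exists_addChar F)
  hψ := Classical.choose_spec (exists_addChar F)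
  ρ := ρ.comp (⊤ : Subgroup (GL (Fin (m + 1)) F)).subtype

/-- A lower bound for the degrees of the irreducible characters of `GL_{m+1}` nontrivial on transvections. -/
def Low (m b : ℕ) : Prop :=
  ∀ (hm : 2 ≤ m + 1) (η : Cfsg.IrrCharacter (GL (Fin (m + 1)) F)),
    η.1 (root01 hm 1) ≠ η.1 1 → ∀ k : ℕ, η.1 1 = (k : ℂ) → b ≤ k

variable {F}

theorem low_of_rep {m b : ℕ} (hL : Low F m b) (hm : 2 ≤ m + 1) {V : Type w} [AddCommGroup V] [Module ℂ V]
    [FiniteDimensional ℂ V] (ρ : Representation ℂ (GL (Fin (m + 1)) F) V)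
    (h : ρ.character (root01 hm 1) ≠ (finrank ℂ V : ℂ)) : b ≤ finrank ℂ V := by
  classical
  haveI := Fintype.ofFinite (GL (Fin (m + 1)) F)
  haveI := Fintype.ofFinite (Cfsg.IrrCharacter (GL (Fin (m + 1)) F))
  obtain ⟨c, hc⟩ := exists_constituents (isCharacter_character ρ)
  choose d hd0 hd using fun χ : Cfsg.IrrCharacter (GL (Fin (m + 1)) F) => irr_one_pos χ.2
  by_contra hlt
  push Not at hlt
  refine h ?_
  have h1 := hc 1
  rw [Representation.char_one] at h1
  simp only [hd, ← Nat.cast_mul, ← Nat.cast_sum, Nat.cast_inj] at h1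
  rw [hc, h1, Nat.cast_sum]
  refine Finset.sum_congr rfl fun χ _ => ?_
  rcases Nat.eq_zero_or_pos (c χ) with h0 | h0
  · simp [h0]
  · by_cases he : χ.1 (root01 hm 1) = χ.1 1
    · rw [he, hd χ, Nat.cast_mul]
    · have := hL hm χ he (d χ) (hd χ)
      have h2 : c χ * d χ ≤ finrank ℂ V :=
        h1 ▸ Finset.single_le_sum (f := fun χ => c χ * d χ) (fun _ _ => Nat.zero_le _) (Finset.mem_univ χ)
      have h3 : d χ ≤ c χ * d χ := Nat.le_mul_of_pos_left _ h0
      omega

/-- Every irreducible character of `GL_{m+1}` nontrivial on transvections comes with a setting. -/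
theorem exists_glSetting {m : ℕ} (hm : 2 ≤ m) (η : Cfsg.IrrCharacter (GL (Fin (m + 1)) F)) :
    ∃ (k : ℕ) (D : Setting F m (Fin k → ℂ)), (∀ A, D.δ A = 1) ∧ D.ρ.IsIrreducible ∧ η.1 1 = (k : ℂ) ∧
      η.1 (root01 (by omega) 1) = D.tval hm ∧ ∀ g : GL (Fin (m + 1)) F, ∃ h : D.H, (h : GL (Fin (m + 1)) F) = g ∧
        η.1 g = D.ρ.character h := by
  obtain ⟨k, ρ, hirr, hη⟩ := η.2
  have hall : ∀ g : GL (Fin (m + 1)) F, η.1 g = (glSetting F m ρ).ρ.character ⟨g, trivial⟩ :=
    fun g => by rw [← hη]; rfl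
  refine ⟨k, glSetting F m ρ, fun _ => rfl,
    isIrreducible_comp ρ _ (fun g => ⟨⟨g, trivial⟩, rfl⟩), ?_, ?_, fun g => ⟨⟨g, trivial⟩, rfl, hall g⟩⟩
  · rw [← hη, Representation.char_one, Module.finrank_fin_fun]
  · rw [hall]
    exact (glSetting F m ρ).char_transvection hm (root_isTransvection _ one_ne_zero)

theorem finrank_fun (k : ℕ) : finrank ℂ (Fin k → ℂ) = k := Module.finrank_fin_fun ℂ

/-- The trivial bound. -/
theorem low_weak {m : ℕ} (hm : 2 ≤ m) : Low F m (Fintype.card F ^ m - 1) := by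
  classical
  intro hm' η hne k hk
  obtain ⟨k', D, -, -, hk', ht, -⟩ := exists_glSetting hm η
  have hkk : k' = k := Nat.cast_injective (R := ℂ) (hk'.symm.trans hk)
  obtain ⟨j, -, hj1, hj2⟩ := D.exists_mult hm
  rw [finrank_fun] at hj1 hj2
  have hj : 1 ≤ j := Nat.one_le_iff_ne_zero.2 fun h0 => hne (by
    rw [ht, hk']
    rw [h0, Nat.cast_zero, zero_mul] at hj1
    exact (sub_eq_zero.1 hj1).symm)
  have := Nat.le_mul_of_pos_right (Fintype.card F ^ m - 1) hj
  omega

namespace Setting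

variable {V : Type w} [AddCommGroup V] [Module ℂ V] [FiniteDimensional ℂ V] [DecidableEq F] (D : Setting F m V)

/-- The linear characters of the stabilisers are trivial on the transvections. -/
def LamTrivial : Prop :=
  (∀ b : Fin m → F, b ≠ 0 → D.rk b = 1) → ∀ (i j : Fin m) (h : i ≠ j) (a : Fin m → F), a ≠ 0 → a j = 0 →
    ∀ c : F, D.lam (root h c) a = 1

variable (hm : 2 ≤ m)
include hm

/-- Either the bound holds, or the multiplicity is one. -/
theorem dichotomy [D.ρ.IsIrreducible] (hnt : (finrank ℂ V : ℂ) ≠ D.tval hm) :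
    T (Fintype.card F) m ≤ finrank ℂ V ∨ ((∀ b : Fin m → F, b ≠ 0 → D.rk b = 1) ∧
      (finrank ℂ V : ℂ) - D.tval hm = ((1 : ℕ) : ℂ) * (Fintype.card F : ℂ) ^ m ∧
      finrank ℂ V = D.rk 0 + (Fintype.card F ^ m - 1) ∧
      finrank ℂ V * (Fintype.card F - 1) ∣
        (Fintype.card F ^ (m + 1) - 1) * (Fintype.card F ^ m - 1) * Fintype.card F ^ m) := by
  obtain ⟨k, hk, hk1, hk2⟩ := D.exists_mult hm
  rcases Nat.lt_or_ge k 2 with h | h
  · have hk0 : k ≠ 0 := fun h0 => hnt (by
      rw [h0, Nat.cast_zero, zero_mul] at hk1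
      exact sub_eq_zero.1 hk1)
    have hk' : k = 1 := by omega
    subst hk'
    refine Or.inr ⟨hk, hk1, by rw [hk2, mul_one], ?_⟩
    have := D.dvd_of_irreducible hm hk1
    rwa [one_mul] at this
  · refine Or.inl ((T_le_double (Fintype.one_lt_card (α := F))).trans ?_)
    have := Nat.mul_le_mul_left (Fintype.card F ^ m - 1) h
    omega

/-- The fixed space as a representation, when the multiplicity is one. -/
theorem Z_value (hrk : ∀ b : Fin m → F, b ≠ 0 → D.rk b = 1) (hlam : D.LamTrivial)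
    (hD : (finrank ℂ V : ℂ) - D.tval hm = ((1 : ℕ) : ℂ) * (Fintype.card F : ℂ) ^ m)
    (hd : finrank ℂ V = D.rk 0 + (Fintype.card F ^ m - 1)) {i j : Fin m} (h : i ≠ j) {c : F} (hc : c ≠ 0) :
    D.Z.character (root h c) = (D.rk 0 : ℂ) - (Fintype.card F : ℂ) ^ (m - 1) :=
  D.Z_root hm h hrk rfl hD (by rw [hd, mul_one]) hc fun a ha haj => hlam hrk i j h a ha haj c

omit hm in
theorem Z_finrank : finrank ℂ (LinearMap.range (D.P 0)) = D.rk 0 := rfl

end Setting

/-- The recursion: a bound one dimension down bounds the fixed space. -/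
theorem rk_ge_of_low {m' b : ℕ} (hm : 2 ≤ m' + 1) (hL : Low F m' b) {V : Type w} [AddCommGroup V] [Module ℂ V]
    [FiniteDimensional ℂ V] [DecidableEq F] (D : Setting F (m' + 1) V)
    (hrk : ∀ b : Fin (m' + 1) → F, b ≠ 0 → D.rk b = 1) (hlam : D.LamTrivial)
    (hD : (finrank ℂ V : ℂ) - D.tval hm = ((1 : ℕ) : ℂ) * (Fintype.card F : ℂ) ^ (m' + 1))
    (hd : finrank ℂ V = D.rk 0 + (Fintype.card F ^ (m' + 1) - 1)) : b ≤ D.rk 0 := by
  rw [← D.Z_finrank]
  refine low_of_rep hL hm D.Z ?_
  rw [root01, D.Z_value hm hrk hlam hD hd _ one_ne_zero, D.Z_finrank, Ne, sub_eq_self]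
  exact Setting.card_ne_zero

/-- The bound from the root subgroup of `GL_2`. -/
theorem rk_ge_two {V : Type w} [AddCommGroup V] [Module ℂ V] [FiniteDimensional ℂ V] [DecidableEq F]
    (D : Setting F 2 V) (hrk : ∀ b : Fin 2 → F, b ≠ 0 → D.rk b = 1) (hlam : D.LamTrivial)
    (hD : (finrank ℂ V : ℂ) - D.tval le_rfl = ((1 : ℕ) : ℂ) * (Fintype.card F : ℂ) ^ 2)
    (hd : finrank ℂ V = D.rk 0 + (Fintype.card F ^ 2 - 1)) : Fintype.card F - 1 ≤ D.rk 0 := by
  classical
  have h01 : (0 : Fin 2) ≠ 1 := by decide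
  let f : Multiplicative F →* GL (Fin 2) F :=
    { toFun := fun c => root h01 c.toAdd
      map_one' := root_zero h01
      map_mul' := fun x y => root_add h01 x.toAdd y.toAdd }
  have hchar : Cfsg.IsCharacter (Multiplicative F) (fun c => D.Z.character (f c)) :=
    isCharacter_comp f (isCharacter_character D.Z)
  obtain ⟨n, hn⟩ := classInner_char_nat hchar (isCharacter_one (G := Multiplicative F))
  rw [classInner_def] at hn
  simp only [map_one, mul_one] at hn
  rw [← Finset.add_sum_erase _ _ (Finset.mem_univ (1 : Multiplicative F)),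
    Finset.sum_congr rfl (g := fun _ => (D.rk 0 : ℂ) - (Fintype.card F : ℂ)) (fun c hc => by
      have hc' : c.toAdd ≠ 0 := fun e => Finset.ne_of_mem_erase hc (Multiplicative.toAdd.injective e)
      have e := D.Z_value le_rfl hrk hlam hD hd h01 hc'
      simpa [f] using e),
    Finset.sum_const, Finset.card_erase_of_mem (Finset.mem_univ _), Finset.card_univ, Fintype.card_multiplicative,
    nsmul_eq_mul, show D.Z.character (f 1) = (D.rk 0 : ℂ) by rw [map_one, Representation.char_one, D.Z_finrank],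
    Nat.card_eq_fintype_card, Fintype.card_multiplicative, Nat.cast_sub Fintype.card_pos, Nat.cast_one] at hn
  have hq : (Fintype.card F : ℂ) ≠ 0 := Nat.cast_ne_zero.2 Fintype.card_ne_zero
  field_simp at hn
  have hn' : (D.rk 0 : ℂ) + 1 = (n : ℂ) + (Fintype.card F : ℂ) := by
    refine mul_left_cancel₀ hq ?_
    linear_combination hn
  have : D.rk 0 + 1 = n + Fintype.card F := by exact_mod_cast hn'
  omega

end Cfsg.Agent.SimpleFacts.MinDeg
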