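import Cfsg.Agent.SimpleFacts.MinDeg.Core
import Mathlib

/-!
`SL_5(2)`: the fixed space cannot have dimension nine.
-/

set_option autoImplicit false
set_option linter.unusedSectionVars false

namespace Cfsg.Agent.SimpleFacts.MinDeg

open Matrix Module Cfsg.Agent.Characters

universe u w

variable {F : Type u} [Field F] [Fintype F]

theorem psi_one_two (hq : Fintype.card F = 2) (ψ : AddChar F ℂ) (hψ : ψ ≠ 1) : ψ 1 = -1 := by
  classical
  have hu : ∀ x : F, x = 0 ∨ x = 1 := by
    intro x
    by_contra hx
    push Not at hx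
    have := Finset.card_le_univ ({x, 0, 1} : Finset F)
    rw [Finset.card_insert_of_notMem (by simp [hx.1, hx.2]), Finset.card_pair zero_ne_one, hq] at this
    omega
  have h2 : (1 : F) + 1 = 0 := by
    rcases hu (1 + 1) with h | h
    · exact h
    · simp at h
  have hsq : ψ 1 * ψ 1 = 1 := by rw [← AddChar.map_add_eq_mul, h2, AddChar.map_zero_eq_one]
  rcases mul_self_eq_one_iff.1 hsq with h | h
  · refine absurd (DFunLike.ext _ _ fun x => ?_) hψ
    rcases hu x with rfl | rfl
    · rw [AddChar.map_zero_eq_one]; rfl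
    · rw [h]; rfl
  · exact h

/-- The matrix of a permutation. -/
def pm {n : ℕ} (π : Equiv.Perm (Fin n)) : Matrix (Fin n) (Fin n) F :=
  Matrix.of fun r s => if r = π s then 1 else 0

omit [Fintype F] in
theorem pm_mul {n : ℕ} (π σ : Equiv.Perm (Fin n)) : pm (F := F) π * pm σ = pm (π * σ) := by
  ext a b
  simp [pm, Matrix.mul_apply]
  exact if_congr Iff.rfl rfl rfl

omit [Fintype F] in
theorem pm_one {n : ℕ} : pm (F := F) (1 : Equiv.Perm (Fin n)) = 1 := by
  ext a b
  simp [pm, Matrix.one_apply]
  exact if_congr Iff.rfl rfl rfl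

omit [Fintype F] in
theorem pm_mul_single {n : ℕ} (π : Equiv.Perm (Fin n)) (i j : Fin n) (c : F) :
    pm π * Matrix.single i j c = Matrix.single (π i) j c := by
  ext a b
  by_cases hb : j = b
  · subst hb
    rw [Matrix.mul_apply, Finset.sum_eq_single i]
    · by_cases ha : π i = a
      · subst ha; simp [pm]
      · simp [pm, Matrix.single_apply, ha, Ne.symm ha]
    · intro x _ hx; simp [Matrix.single_apply, Ne.symm hx]
    · simp
  · simp [Matrix.mul_apply, Matrix.single_apply, hb]

omit [Fintype F] in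
theorem single_mul_pm {n : ℕ} (π : Equiv.Perm (Fin n)) (i j : Fin n) (c : F) :
    Matrix.single i j c * pm π = Matrix.single i (π.symm j) c := by
  ext a b
  by_cases ha : i = a
  · subst ha
    rw [Matrix.mul_apply, Finset.sum_eq_single j]
    · by_cases hb : π.symm j = b
      · subst hb; simp [pm]
      · have hb' : j ≠ π b := fun e => hb (by rw [e, Equiv.symm_apply_apply])
        simp [pm, Matrix.single_apply, hb, hb']
    · intro x _ hx; simp [Matrix.single_apply, Ne.symm hx]
    · simp
  · simp [Matrix.mul_apply, Matrix.single_apply, ha]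

omit [Fintype F] in
theorem affM_transvection {m : ℕ} (k i j : Fin m) (x c : F) :
    affM 1 (Pi.single k x) (Matrix.transvection i j c) =
      1 + Matrix.single 0 k.succ x + Matrix.single i.succ j.succ c := by
  ext a b
  refine Fin.cases ?_ (fun a => ?_) a <;> refine Fin.cases ?_ (fun b => ?_) b <;>
    simp [Matrix.transvection, Matrix.one_apply, Matrix.single_apply, Pi.single_apply, Fin.succ_ne_zero,
      (Fin.succ_ne_zero _).symm, eq_comm]

omit [Fintype F] in
theorem affM_block_transvection {m : ℕ} (i j : Fin m) (c : F) :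
    affM 1 0 (Matrix.transvection i j c) = 1 + Matrix.single i.succ j.succ c := by
  have h := affM_transvection i i j (0 : F) c
  simpa using h

/-- A product of two commuting transvections of `GL_4`. -/
def jj : GL (Fin 4) F :=
  root (i := (0 : Fin 4)) (j := 2) (by decide) 1 * root (i := (1 : Fin 4)) (j := 3) (by decide) 1

theorem eq_one_of_card_two (hq : Fintype.card F = 2) (u : Fˣ) : u = 1 := by
  classical
  have h : Fintype.card Fˣ = 1 := by rw [Fintype.card_units, hq]
  exact (Fintype.card_le_one_iff_subsingleton.1 h.le).elim u 1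

/-- The real part of an irreducible character of `GL_4(2)` of small degree on `jj`. -/
theorem re_bound (hq : Fintype.card F = 2) (η : Cfsg.IrrCharacter (GL (Fin 4) F)) (k : ℕ)
    (hk : η.1 1 = (k : ℂ)) (hk9 : k ≤ 9) :
    5 * (η.1 (root01 (n := 4) (by omega) (1 : F))).re - (k : ℝ) ≤ 4 * (η.1 jj).re := by
  classical
  obtain ⟨k', D, -, hirr, hk', ht, hall⟩ := exists_glSetting (F := F) (m := 3) (by omega) η
  have hkk : k' = k := Nat.cast_injective (R := ℂ) (hk'.symm.trans hk)
  subst hkk
  obtain ⟨j, hrk, hj1, hj2⟩ := D.exists_mult (by omega : 2 ≤ 3)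
  rw [finrank_fun] at hj1 hj2
  rw [hq] at hj2
  rw [ht]
  obtain ⟨g, hg, hgc⟩ := hall jj
  rw [hgc]
  rcases Nat.eq_zero_or_pos j with h0 | h0
  · -- transvections act trivially
    subst h0
    rw [Nat.cast_zero, zero_mul] at hj1
    obtain ⟨g₁, hg₁, -⟩ := hall (root (i := (0 : Fin 4)) (j := 2) (by decide) 1)
    obtain ⟨g₂, hg₂, -⟩ := hall (root (i := (1 : Fin 4)) (j := 3) (by decide) 1)
    have e : g = g₁ * g₂ := Subtype.ext (by rw [hg, Subgroup.coe_mul, hg₁, hg₂]; rfl)
    have h1 := D.rho_eq_one_of_mult_zero (by omega : 2 ≤ 3) (by rw [finrank_fun]; exact hj1) (h := g₁)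
      (by rw [hg₁]; exact root_isTransvection _ one_ne_zero)
    have h2 := D.rho_eq_one_of_mult_zero (by omega : 2 ≤ 3) (by rw [finrank_fun]; exact hj1) (h := g₂)
      (by rw [hg₂]; exact root_isTransvection _ one_ne_zero)
    have hc : D.ρ.character g = (k' : ℂ) := by
      rw [Representation.character, e, map_mul, h1, h2]
      show LinearMap.trace ℂ (Fin k' → ℂ) (LinearMap.id * LinearMap.id) = _
      rw [← Module.End.one_eq_id, one_mul, LinearMap.trace_one, finrank_fun]
    rw [hc, show D.tval (by omega : 2 ≤ 3) = (k' : ℂ) from (sub_eq_zero.1 hj1).symm, Complex.natCast_re]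
    linarith
  · have hj : j = 1 := by
      by_contra hne
      have := Nat.mul_le_mul_left (2 ^ 3 - 1) (show 2 ≤ j by omega)
      omega
    subst hj
    have hd : D.rk 0 ≤ 2 := by omega
    -- the fixed space is trivial on transvections
    set y : GL (Fin 3) F := root (i := (0 : Fin 3)) (j := 2) (by decide) 1 with hy
    have hZ : D.Z.character y = (D.rk 0 : ℂ) := by
      obtain ⟨j', -, hj1', hj2'⟩ := (glSetting F 2 D.Z).exists_mult le_rfl
      rw [D.Z_finrank, hq] at hj2'
      rw [D.Z_finrank] at hj1'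
      have hj0 : j' = 0 := by
        by_contra hne
        have := Nat.mul_le_mul_left (2 ^ 2 - 1) (Nat.one_le_iff_ne_zero.2 hne)
        omega
      rw [hj0, Nat.cast_zero, zero_mul] at hj1'
      exact ((glSetting F 2 D.Z).char_transvection le_rfl (h := ⟨y, trivial⟩)
        (root_isTransvection (by decide) one_ne_zero)).trans (sub_eq_zero.1 hj1').symm
    have hjj : g = D.tH (Pi.single (1 : Fin 3) 1) * D.ι y := by
      refine Subtype.ext (hg.trans ?_)
      rw [Subgroup.coe_mul]
      show jj = tr (Pi.single (1 : Fin 3) 1) * bl (D.δ y, y)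
      rw [show D.δ y = 1 from eq_one_of_card_two hq _]
      apply Units.ext
      rw [jj, Units.val_mul, Units.val_mul, coe_root, coe_root, coe_tr, coe_bl, coe_root, affM_mul]
      simp only [Units.val_one, one_mul, smul_zero, zero_add]
      rw [show (Pi.single (1 : Fin 3) (1 : F)) ᵥ* Matrix.transvection (0 : Fin 3) 2 1 = Pi.single 1 1 by
        rw [Matrix.transvection, Matrix.vecMul_add, Matrix.vecMul_one]
        funext l; simp [Matrix.single_apply], affM_transvection, Matrix.transvection, Matrix.transvection,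
        add_mul, one_mul, mul_add, mul_one, Matrix.single_mul_single_of_ne _ _ _ _ (by decide), add_zero]
      rw [show ((1 : Fin 3).succ : Fin 4) = 2 from rfl, show ((0 : Fin 3).succ : Fin 4) = 1 from rfl,
        show ((2 : Fin 3).succ : Fin 4) = 3 from rfl]
      abel
    rw [hjj, D.char_eq_sum, ← Finset.add_sum_erase _ _ (Finset.mem_univ (0 : Fin 3 → F))]
    rw [dotProduct_zero, AddChar.map_zero_eq_one, one_mul, ← D.Z_character, hZ]
    set S := ∑ a ∈ (Finset.univ : Finset (Fin 3 → F)).erase 0, D.ψ (Pi.single (1 : Fin 3) 1 ⬝ᵥ a) * D.lam y a with hS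
    have hnorm : ‖S‖ ≤ 3 := by
      rw [hS]
      refine (norm_sum_le _ _).trans ?_
      have hle : ∀ a ∈ (Finset.univ : Finset (Fin 3 → F)).erase 0,
          ‖D.ψ (Pi.single (1 : Fin 3) 1 ⬝ᵥ a) * D.lam y a‖ ≤ if a 2 = 0 then (1 : ℝ) else 0 := by
        intro a ha
        have ha0 := Finset.ne_of_mem_erase ha
        split_ifs with h2
        · have hfix : D.act y a = a := (D.act_root_fix_iff _ one_ne_zero a).2 h2
          rw [norm_mul, D.norm_lam hfix (hrk a ha0), mul_one, AddChar.norm_apply]
        · rw [hy, D.lam_of_moved fun e => h2 ((D.act_root_fix_iff _ one_ne_zero a).1 e), mul_zero, norm_zero]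
      refine (Finset.sum_le_sum hle).trans (le_of_eq ?_)
      rw [Finset.sum_boole]
      have h1 : (((Finset.univ : Finset (Fin 3 → F)).erase 0).filter fun a => a 2 = 0).card = 3 := by
        rw [Finset.filter_erase, Finset.card_erase_of_mem (by simp), ← Fintype.card_subtype,
          ← Fintype.card_congr (α := Fin 2 → F)]
        · rw [Fintype.card_fun, Fintype.card_fin, hq]; rfl
        · exact
            { toFun := fun f => ⟨![f 0, f 1, 0], rfl⟩
              invFun := fun a => ![a.1 0, a.1 1]
              left_inv := fun f => by funext i; fin_cases i <;> rfl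
              right_inv := fun a => Subtype.ext (by funext i; fin_cases i <;> simp [a.2]) }
      rw [h1]; norm_num
    have hre : -3 ≤ S.re := (neg_le_neg hnorm).trans (neg_le_of_abs_le (Complex.abs_re_le_norm S))
    have ht' : (D.tval (by omega : 2 ≤ 3)).re = (k' : ℝ) - 8 := by
      have e : D.tval (by omega : 2 ≤ 3) = (k' : ℂ) - 8 := by
        rw [hq, Nat.cast_one, one_mul] at hj1
        push_cast at hj1
        linear_combination -hj1
      rw [e]; simp
    have hkd : (k' : ℝ) = (D.rk 0 : ℝ) + 7 := by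
      have : k' = D.rk 0 + 7 := by omega
      exact_mod_cast this
    rw [Complex.add_re, Complex.natCast_re, ht']
    linarith

/-- The fixed space of dimension nine is impossible. -/
theorem five_two (hq : Fintype.card F = 2) {V : Type w} [AddCommGroup V] [Module ℂ V] [FiniteDimensional ℂ V]
    [DecidableEq F] (D : Setting F 4 V) (hrk : ∀ b : Fin 4 → F, b ≠ 0 → D.rk b = 1) (hlam : D.LamTrivial)
    (hD : (finrank ℂ V : ℂ) - D.tval (by omega : 2 ≤ 4) = ((1 : ℕ) : ℂ) * (Fintype.card F : ℂ) ^ 4)
    (hd : finrank ℂ V = D.rk 0 + (Fintype.card F ^ 4 - 1)) (h9 : D.rk 0 = 9) : False := by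
  classical
  have h01 : (0 : Fin 4) ≠ 1 := by decide
  set y : GL (Fin 4) F := root h01 1 with hy
  have hZy : D.Z.character y = 1 := by
    rw [hy, D.Z_value (by omega) hrk hlam hD hd h01 one_ne_zero, h9, hq]; norm_num
  have hδ : ∀ A, D.δ A = 1 := fun A => eq_one_of_card_two hq _
  -- the first evaluation
  have hX : D.ρ.character (D.tH (Pi.single (3 : Fin 4) 1) * D.ι y) = 0 := by
    rw [D.char_eq_sum, ← Finset.add_sum_erase _ _ (Finset.mem_univ (0 : Fin 4 → F)), dotProduct_zero,
      AddChar.map_zero_eq_one, one_mul, ← D.Z_character, hZy]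
    set f : (Fin 4 → F) → ℂ := fun a => if a 1 = 0 then D.ψ (a 3) else 0 with hf
    have e : ∀ a ∈ (Finset.univ : Finset (Fin 4 → F)).erase 0,
        D.ψ (Pi.single (3 : Fin 4) 1 ⬝ᵥ a) * D.lam y a = f a := by
      intro a ha
      have ha0 := Finset.ne_of_mem_erase ha
      rw [single_dotProduct, one_mul, hf]
      beta_reduce
      split_ifs with h1
      · rw [hy, hlam hrk _ _ h01 a ha0 h1 1, mul_one]
      · rw [hy, D.lam_of_moved fun e => h1 ((D.act_root_fix_iff h01 one_ne_zero a).1 e), mul_zero]
    rw [Finset.sum_congr rfl e, Finset.sum_erase_eq_sub (Finset.mem_univ _)]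
    have hsum : ∑ a, f a = 0 := by
      have h2 : ∀ a : Fin 4 → F, f (a + Pi.single (3 : Fin 4) 1) = -f a := by
        intro a
        rw [hf]
        beta_reduce
        rw [Pi.add_apply, Pi.add_apply, Pi.single_eq_same, Pi.single_eq_of_ne (by decide), add_zero,
          AddChar.map_add_eq_mul, psi_one_two hq D.ψ D.hψ]
        split_ifs <;> simp
      have h3 := Fintype.sum_equiv (Equiv.addRight (Pi.single (3 : Fin 4) (1 : F) : Fin 4 → F))
        (fun a => f (a + Pi.single (3 : Fin 4) 1)) f (fun a => rfl)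
      rw [Finset.sum_congr rfl (fun a _ => h2 a), Finset.sum_neg_distrib] at h3
      linear_combination (-1 / 2 : ℂ) * h3
    rw [hsum]
    simp [f]
  -- the conjugate element
  let π : Equiv.Perm (Fin 5) :=
    { toFun := ![1, 2, 4, 0, 3], invFun := ![3, 0, 1, 4, 2]
      left_inv := by decide
      right_inv := by decide }
  let P : GL (Fin 5) F := ⟨pm π, pm π⁻¹, by rw [pm_mul, mul_inv_cancel, pm_one],
    by rw [pm_mul, inv_mul_cancel, pm_one]⟩
  have hP : P ∈ D.H := D.hH _ (eq_one_of_card_two hq _)
  have hconj : (⟨P, hP⟩ : D.H) * (D.tH (Pi.single (3 : Fin 4) 1) * D.ι y) = D.ι jj * ⟨P, hP⟩ := by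
    refine Subtype.ext ?_
    rw [Subgroup.coe_mul, Subgroup.coe_mul, Subgroup.coe_mul]
    show P * (tr (Pi.single (3 : Fin 4) 1) * bl (D.δ y, y)) = bl (D.δ jj, jj) * P
    rw [hδ, hδ]
    apply Units.ext
    simp only [Units.val_mul, coe_tr, coe_bl, affM_mul, hy, jj, coe_root, Units.val_one, one_mul, smul_zero,
      zero_add, P]
    rw [show (Pi.single (3 : Fin 4) (1 : F)) ᵥ* Matrix.transvection (0 : Fin 4) 1 1 = Pi.single 3 1 by
      rw [Matrix.transvection, Matrix.vecMul_add, Matrix.vecMul_one]
      funext l; simp [Matrix.single_apply], affM_transvection]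
    have e : affM (1 : F) (0 : Fin 4 → F) (Matrix.transvection (0 : Fin 4) 2 1 * Matrix.transvection 1 3 1) =
        1 + Matrix.single 1 3 1 + Matrix.single 2 4 1 := by
      have h := affM_mul (1 : F) 1 (0 : Fin 4 → F) 0 (Matrix.transvection (0 : Fin 4) 2 1)
        (Matrix.transvection 1 3 1)
      rw [one_mul, smul_zero, zero_add, Matrix.zero_vecMul] at h
      rw [← h, affM_block_transvection, affM_block_transvection, add_mul, one_mul, mul_add, mul_one,
        Matrix.single_mul_single_of_ne _ _ _ _ (by decide), add_zero,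
        show ((0 : Fin 4).succ : Fin 5) = 1 from rfl, show ((2 : Fin 4).succ : Fin 5) = 3 from rfl,
        show ((1 : Fin 4).succ : Fin 5) = 2 from rfl, show ((3 : Fin 4).succ : Fin 5) = 4 from rfl]
      abel
    rw [e, mul_add, mul_add, mul_one, add_mul, add_mul, one_mul, pm_mul_single, pm_mul_single, single_mul_pm,
      single_mul_pm]
    rfl
  have hXj : D.ρ.character (D.ι jj) = 0 := by
    rw [← hX, show D.ι jj = (⟨P, hP⟩ : D.H) * (D.tH (Pi.single (3 : Fin 4) 1) * D.ι y) * (⟨P, hP⟩ : D.H)⁻¹ by
      rw [hconj, mul_inv_cancel_right], Representation.char_conj]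
  -- the second evaluation
  have hZjj : D.Z.character jj = -3 := by
    rw [D.char_ι, ← Finset.add_sum_erase _ _ (Finset.mem_univ (0 : Fin 4 → F)), ← D.Z_character] at hXj
    have e : ∀ a ∈ (Finset.univ : Finset (Fin 4 → F)).erase 0,
        D.lam jj a = if a 2 = 0 ∧ a 3 = 0 then 1 else 0 := by
      intro a ha
      have ha0 := Finset.ne_of_mem_erase ha
      have hact : D.act jj a = a + Pi.single (1 : Fin 4) (a 3) + Pi.single (0 : Fin 4) (a 2) := by
        rw [jj, D.act_mul, D.act_root, D.act_root, one_mul, one_mul, Pi.add_apply,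
          Pi.single_eq_of_ne (by decide), add_zero]
      split_ifs with h
      · rw [jj, D.lam_mul ((D.act_root_fix_iff _ one_ne_zero a).2 h.1)
          ((D.act_root_fix_iff _ one_ne_zero a).2 h.2) (hrk a ha0), hlam hrk _ _ _ a ha0 h.1 1,
          hlam hrk _ _ _ a ha0 h.2 1, one_mul]
      · refine D.lam_of_moved fun e => h ?_
        rw [hact, add_assoc, add_eq_left] at e
        have e0 := congrFun e 0
        have e1 := congrFun e 1
        simp at e0 e1
        exact ⟨e0, e1⟩
    rw [Finset.sum_congr rfl e, Finset.sum_boole] at hXj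
    have h1 : (((Finset.univ : Finset (Fin 4 → F)).erase 0).filter fun a => a 2 = 0 ∧ a 3 = 0).card = 3 := by
      rw [Finset.filter_erase, Finset.card_erase_of_mem (by simp), ← Fintype.card_subtype,
        ← Fintype.card_congr (α := Fin 2 → F)]
      · rw [Fintype.card_fun, Fintype.card_fin, hq]; rfl
      · exact
          { toFun := fun f => ⟨![f 0, f 1, 0, 0], rfl, rfl⟩
            invFun := fun a => ![a.1 0, a.1 1]
            left_inv := fun f => by funext i; fin_cases i <;> rfl
            right_inv := fun a => Subtype.ext (by funext i; fin_cases i <;> simp [a.2.1, a.2.2]) }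
    rw [h1] at hXj
    push_cast at hXj
    linear_combination hXj
  -- the constituents
  haveI := Fintype.ofFinite (GL (Fin 4) F)
  haveI := Fintype.ofFinite (Cfsg.IrrCharacter (GL (Fin 4) F))
  obtain ⟨c, hc⟩ := exists_constituents (isCharacter_character D.Z)
  choose d hd0 hdeg using fun χ : Cfsg.IrrCharacter (GL (Fin 4) F) => irr_one_pos χ.2
  have h1 := hc 1
  rw [Representation.char_one, D.Z_finrank, h9] at h1
  simp only [hdeg, ← Nat.cast_mul, ← Nat.cast_sum, Nat.cast_inj] at h1
  have hroot : D.Z.character (root01 (n := 4) (by omega) (1 : F)) = 1 := hZy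
  have hr := congrArg Complex.re (hroot.symm.trans (hc _))
  have hjre := congrArg Complex.re (hZjj.symm.trans (hc _))
  simp only [Complex.re_sum, Complex.mul_re, Complex.natCast_re, Complex.natCast_im, zero_mul, sub_zero,
    Complex.one_re, Complex.neg_re] at hr hjre
  norm_num at hjre
  have hineq : ∑ χ : Cfsg.IrrCharacter (GL (Fin 4) F),
      (5 * ((c χ : ℝ) * (χ.1 (root01 (n := 4) (by omega) (1 : F))).re) - (c χ : ℝ) * (d χ : ℝ)) ≤
      ∑ χ : Cfsg.IrrCharacter (GL (Fin 4) F), 4 * ((c χ : ℝ) * (χ.1 jj).re) := by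
    refine Finset.sum_le_sum fun χ _ => ?_
    rcases Nat.eq_zero_or_pos (c χ) with h0 | h0
    · simp [h0]
    · have h2 : c χ * d χ ≤ 9 :=
        h1 ▸ Finset.single_le_sum (f := fun χ => c χ * d χ) (fun _ _ => Nat.zero_le _) (Finset.mem_univ χ)
      have h3 : d χ ≤ c χ * d χ := Nat.le_mul_of_pos_left _ h0
      have h4 := mul_le_mul_of_nonneg_left (re_bound hq χ (d χ) (hdeg χ) (h3.trans h2)) (Nat.cast_nonneg (c χ))
      linarith
  have h1' : ∑ χ : Cfsg.IrrCharacter (GL (Fin 4) F), (c χ : ℝ) * (d χ : ℝ) = 9 := by exact_mod_cast h1.symm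
  rw [Finset.sum_sub_distrib, ← Finset.mul_sum, ← Finset.mul_sum, ← hr, h1', ← hjre] at hineq
  norm_num at hineq

end Cfsg.Agent.SimpleFacts.MinDeg
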