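import Cfsg.Agent.SimpleFacts.MinDeg.Values
import Mathlib

/-!
The linear characters of the stabilisers of the eigencharacters are trivial on the transvections.
-/

set_option autoImplicit false
set_option linter.unusedSectionVars false

namespace Cfsg.Agent.SimpleFacts.MinDeg

open Matrix Module

universe u w

variable {F : Type u} [Field F] {m : ℕ}

/-- A diagonal element. -/
def dg (d : Fin m → Fˣ) : GL (Fin m) F :=
  ⟨Matrix.diagonal fun i => (d i : F), Matrix.diagonal fun i => (((d i)⁻¹ : Fˣ) : F),
    by rw [Matrix.diagonal_mul_diagonal]; simp,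
    by rw [Matrix.diagonal_mul_diagonal]; simp⟩

theorem coe_dg (d : Fin m → Fˣ) : (dg d : Matrix (Fin m) (Fin m) F) = Matrix.diagonal fun i => (d i : F) := rfl

theorem det_dg (d : Fin m → Fˣ) : GeneralLinearGroup.det (dg d) = ∏ i, d i := by
  apply Units.ext
  rw [GeneralLinearGroup.val_det_apply, coe_dg, Matrix.det_diagonal, Units.coe_prod]

theorem dg_conj_root (d : Fin m → Fˣ) {i j : Fin m} (h : i ≠ j) (c : F) :
    dg d * root h c * (dg d)⁻¹ = root h ((d i : F) * ((d j)⁻¹ : Fˣ).1 * c) := by
  rw [mul_inv_eq_iff_eq_mul]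
  apply Units.ext
  rw [Units.val_mul, Units.val_mul, coe_root, coe_root, coe_dg, Matrix.transvection, Matrix.transvection,
    mul_add, mul_one, add_mul, one_mul]
  congr 1
  ext k l
  by_cases hk : k = i <;> by_cases hl : l = j <;>
    simp [Matrix.diagonal_mul, Matrix.mul_diagonal, Matrix.single_apply, hk, hl, Ne.symm]
  field_simp

variable [Fintype F] {V : Type w} [AddCommGroup V] [Module ℂ V] (D : Setting F m V)

namespace Setting

variable [FiniteDimensional ℂ V] [DecidableEq F]

theorem act_dg_single (d : Fin m → Fˣ) (k : Fin m) (x : F) :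
    D.act (dg d) (Pi.single k x) = Pi.single k ((((D.δ (dg d))⁻¹ : Fˣ) : F) * (d k : F) * x) := by
  funext l
  simp only [act, coe_dg, Pi.smul_apply, smul_eq_mul, Matrix.mulVec_diagonal]
  by_cases hl : l = k
  · subst hl; simp; ring
  · simp [hl]

/-- A stabiliser element scaling the root kills the linear character on it. -/
theorem lam_eq_one_of_scale {i j : Fin m} (h : i ≠ j) {a : Fin m → F} (h1 : D.rk a = 1) (hfix : a j = 0)
    (g : GL (Fin m) F) (hg : D.act g a = a) (s : F) (hs : s ≠ 1)
    (hconj : ∀ c, g * root h c * g⁻¹ = root h (s * c)) (c : F) : D.lam (root h c) a = 1 := by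
  have hfixc : ∀ c : F, D.act (root h c) a = a := fun c => by rw [D.act_root h, hfix, mul_zero]; simp
  have inv : ∀ c, D.lam (root h (s * c)) a = D.lam (root h c) a := fun c => by
    have e := D.lam_conj g (A := root h c) (a := a)
    rwa [hg, hconj] at e
  have hadd : ∀ c d, D.lam (root h (c + d)) a = D.lam (root h c) a * D.lam (root h d) a := fun c d => by
    rw [root_add, D.lam_mul (hfixc c) (hfixc d) h1]
  have hne : ∀ c, D.lam (root h c) a ≠ 0 := fun c e => by
    have := D.norm_lam (hfixc c) h1
    rw [e, norm_zero] at this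
    exact zero_ne_one this
  have e := hadd ((s - 1) * (c / (s - 1))) (c / (s - 1))
  rw [show (s - 1) * (c / (s - 1)) + c / (s - 1) = s * (c / (s - 1)) by ring, inv,
    mul_div_cancel₀ c (sub_ne_zero.2 hs)] at e
  exact (mul_eq_right₀ (hne _)).1 e.symm

/-- The twist trivial: every stabiliser is large. -/
theorem lam_trivial_of_delta_one (hδ1 : ∀ A, D.δ A = 1) (hq : 2 < Fintype.card F) {i j : Fin m} (h : i ≠ j)
    {a : Fin m → F} (h1 : D.rk a = 1) (hfix : a j = 0) (c : F) : D.lam (root h c) a = 1 := by
  obtain ⟨s, hs⟩ : ∃ s : Fˣ, s ≠ 1 := by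
    have : Nontrivial Fˣ := by
      rw [← Fintype.one_lt_card_iff_nontrivial, Fintype.card_units]
      omega
    exact exists_ne 1
  refine D.lam_eq_one_of_scale h h1 hfix (dg (Function.update 1 j s)) ?_ ((s⁻¹ : Fˣ) : F)
    (fun e => hs (inv_eq_one.1 (Units.ext e))) (fun c => ?_) c
  · funext l
    simp only [act, hδ1, inv_one, Units.val_one, one_smul, coe_dg, Matrix.mulVec_diagonal]
    by_cases hl : l = j
    · subst hl; rw [hfix, mul_zero]
    · rw [Function.update_of_ne hl]; simp
  · rw [dg_conj_root]
    simp [h]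

/-- Reduction to a multiple of a basis vector. -/
theorem lam_trivial_reduce {i j : Fin m} (h : i ≠ j) {a : Fin m → F} (h1 : D.rk a = 1) (hfix : a j = 0)
    {k : Fin m} (hki : k ≠ i) (hkj : k ≠ j) (hk : a k ≠ 0) (c : F) (hrk : ∀ b : Fin m → F, b ≠ 0 → D.rk b = 1)
    (H : D.lam (root h c) (Pi.single k (a k)) = 1) : D.lam (root h c) a = 1 := by
  classical
  set w : Fin m → F := (a k)⁻¹ • a - Pi.single k 1 with hw
  have hwk : w k = 0 := by simp [hw, hk]
  have hwj : w j = 0 := by simp [hw, hfix, hkj.symm]
  set M : Matrix (Fin m) (Fin m) F := 1 + vecMulVec w (Pi.single k 1) with hM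
  have hdet : M.det = 1 := by
    rw [hM, vecMulVec_eq Unit, Matrix.det_one_add_replicateCol_mul_replicateRow]
    simp [hwk]
  let P : GL (Fin m) F := GeneralLinearGroup.mkOfDetNeZero M (by rw [hdet]; exact one_ne_zero)
  have hP : (P : Matrix (Fin m) (Fin m) F) = M := rfl
  have hact : D.act P (Pi.single k (a k)) = a := by
    rw [D.act_of_det _ (Units.ext (by simpa [P] using hdet)), hP, hM, Matrix.add_mulVec, Matrix.one_mulVec,
      vecMulVec_mulVec, hw]
    funext l
    by_cases hl : l = k
    · subst hl; simp [hk]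
    · simp [hl]; field_simp
  have hcom : P * root h c * P⁻¹ = root h c := by
    rw [mul_inv_eq_iff_eq_mul]
    apply Units.ext
    have e1 : vecMulVec w (Pi.single k (1 : F)) * Matrix.single i j c = 0 := by
      rw [vecMulVec_mul, Matrix.single_one_vecMul]
      ext r s
      simp [vecMulVec_apply, Matrix.row, Matrix.single_apply, Ne.symm hki]
    have e2 : Matrix.single i j c * vecMulVec w (Pi.single k (1 : F)) = 0 := by
      rw [mul_vecMulVec, Matrix.single_mulVec, hwj, mul_zero]
      ext r s
      simp [vecMulVec_apply, Function.update_apply]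
    rw [Units.val_mul, Units.val_mul, hP, coe_root, hM, Matrix.transvection]
    simp only [add_mul, mul_add, one_mul, mul_one, e1, e2]
    abel
  have e := D.lam_conj P (A := root h c) (a := Pi.single k (a k))
  rwa [hact, hcom, H] at e

/-- The twist the inverse determinant. -/
theorem lam_trivial_of_delta_det (hδd : ∀ A, D.δ A * GeneralLinearGroup.det A = 1) (hq : 2 < Fintype.card F)
    (hm2 : m = 2 → ∃ s : F, s ≠ 0 ∧ s ^ 3 ≠ 1) (hm3 : m = 3 → Fintype.card F ≠ 3)
    (hrk : ∀ b : Fin m → F, b ≠ 0 → D.rk b = 1) {i j : Fin m} (h : i ≠ j) {a : Fin m → F} (ha : a ≠ 0)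
    (hfix : a j = 0) (c : F) : D.lam (root h c) a = 1 := by
  classical
  have hinv : ∀ A, (D.δ A)⁻¹ = GeneralLinearGroup.det A := fun A => inv_eq_of_mul_eq_one_right (hδd A)
  obtain ⟨s, hs⟩ : ∃ s : Fˣ, s ≠ 1 := by
    have : Nontrivial Fˣ := by
      rw [← Fintype.one_lt_card_iff_nontrivial, Fintype.card_units]
      omega
    exact exists_ne 1
  by_cases hex : ∃ k, k ≠ i ∧ k ≠ j ∧ a k ≠ 0
  · obtain ⟨k, hki, hkj, hk⟩ := hex
    refine D.lam_trivial_reduce h (hrk a ha) hfix hki hkj hk c hrk ?_
    have hne : (Pi.single k (a k) : Fin m → F) ≠ 0 := by simpa using hk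
    have hfix' : (Pi.single k (a k) : Fin m → F) j = 0 := by simp [hkj.symm]
    by_cases hl : ∃ l, l ≠ i ∧ l ≠ j ∧ l ≠ k
    · obtain ⟨l, hli, hlj, hlk⟩ := hl
      refine D.lam_eq_one_of_scale h (hrk _ hne) hfix' (dg (Function.update (Function.update 1 i s) l s⁻¹)) ?_
        (s : F) (fun e => hs (Units.ext e)) (fun c => ?_) c
      · rw [D.act_dg_single, hinv, det_dg]
        congr 1
        rw [Function.update_of_ne hlk.symm, Function.update_of_ne hki]
        rw [Finset.prod_update_of_mem (Finset.mem_univ l), Finset.prod_update_of_mem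
          (by simp [hli.symm] : i ∈ Finset.univ \ {l})]
        simp
      · rw [dg_conj_root]
        simp [hli.symm, hlj.symm, h.symm]
    · push Not at hl
      have hm : m = 3 := by
        have h1 : (Finset.univ : Finset (Fin m)) = {i, j, k} := by
          refine (Finset.eq_univ_of_forall fun l => ?_).symm
          simp only [Finset.mem_insert, Finset.mem_singleton]
          by_contra hc
          push Not at hc
          exact hc.2.2 (hl l hc.1 hc.2.1)
        have h2 := congrArg Finset.card h1
        rw [Finset.card_univ, Fintype.card_fin, Finset.card_insert_of_notMem (by simp [h, hki.symm]),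
          Finset.card_pair hkj.symm] at h2
        exact h2
      obtain ⟨u, hu⟩ : ∃ u : Fˣ, u * u ≠ 1 := by
        obtain ⟨u, hu⟩ := IsCyclic.exists_generator (α := Fˣ)
        refine ⟨u, fun e => ?_⟩
        have h1 : orderOf u = Fintype.card F - 1 := by
          rw [orderOf_eq_card_of_forall_mem_zpowers hu, Classical.Linear.natCard_units_eq]
        have h2 := Nat.le_of_dvd two_pos (orderOf_dvd_of_pow_eq_one (show u ^ 2 = 1 by rw [sq, e]))
        have := hm3 hm
        omega
      refine D.lam_eq_one_of_scale h (hrk _ hne) hfix' (dg (Function.update (Function.update 1 i u) j u⁻¹)) ?_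
        ((u * u : Fˣ) : F) (fun e => hu (Units.ext e)) (fun c => ?_) c
      · rw [D.act_dg_single, hinv, det_dg]
        congr 1
        rw [Function.update_of_ne hkj, Function.update_of_ne hki,
          Finset.prod_update_of_mem (Finset.mem_univ j), Finset.prod_update_of_mem
          (by simp [h] : i ∈ Finset.univ \ {j})]
        simp
      · rw [dg_conj_root]
        simp [h]
  · push Not at hex
    have ha' : a = Pi.single i (a i) := by
      funext l
      by_cases hl : l = i
      · subst hl; simp
      · by_cases hlj : l = j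
        · subst hlj; simp [hfix, hl]
        · simp [hl, hex l hl hlj]
    have h1 := hrk a ha
    rw [ha'] at h1 hfix ⊢
    by_cases hl : ∃ l, l ≠ i ∧ l ≠ j
    · obtain ⟨l, hli, hlj⟩ := hl
      refine D.lam_eq_one_of_scale h h1 hfix (dg (Function.update (Function.update 1 j s) l s⁻¹)) ?_
        ((s⁻¹ : Fˣ) : F) (fun e => hs (inv_eq_one.1 (Units.ext e))) (fun c => ?_) c
      · rw [D.act_dg_single, hinv, det_dg]
        congr 1
        rw [Function.update_of_ne hli.symm, Function.update_of_ne h,
          Finset.prod_update_of_mem (Finset.mem_univ l), Finset.prod_update_of_mem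
          (by simp [hlj.symm] : j ∈ Finset.univ \ {l})]
        simp
      · rw [dg_conj_root]
        simp [hli.symm, hlj.symm, h]
    · push Not at hl
      have h1u : (Finset.univ : Finset (Fin m)) = {i, j} := by
        refine (Finset.eq_univ_of_forall fun l => ?_).symm
        simp only [Finset.mem_insert, Finset.mem_singleton]
        by_contra hc
        push Not at hc
        exact hc.2 (hl l hc.1)
      have hm : m = 2 := by
        have h2 := congrArg Finset.card h1u
        rwa [Finset.card_univ, Fintype.card_fin, Finset.card_pair h] at h2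
      obtain ⟨t, ht0, ht⟩ := hm2 hm
      set u : Fˣ := Units.mk0 t ht0
      refine D.lam_eq_one_of_scale h h1 hfix (dg (Function.update (Function.update 1 i u) j (u * u)⁻¹)) ?_
        ((u * u * u : Fˣ) : F) (fun e => ht ?_) (fun c => ?_) c
      · rw [D.act_dg_single, hinv, det_dg]
        congr 1
        rw [Function.update_of_ne h, Function.update_self,
          Finset.prod_update_of_mem (Finset.mem_univ j), Finset.prod_update_of_mem
          (by simp [h] : i ∈ Finset.univ \ {j})]
        simp [u]
        field_simp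
      · rw [← e]
        simp [u]; ring
      · rw [dg_conj_root]
        simp [h, u]
        ring

/-- Two elements: brackets. -/
theorem lam_trivial_two (hm4 : 4 ≤ m) (hq : Fintype.card F = 2) (hrk : ∀ b : Fin m → F, b ≠ 0 → D.rk b = 1)
    {i j : Fin m} (h : i ≠ j) {a : Fin m → F} (ha : a ≠ 0) (hfix : a j = 0) (c : F) :
    D.lam (root h c) a = 1 := by
  classical
  have key : ∀ b : Fin m → F, b ≠ 0 → b j = 0 → ∀ l, l ≠ i → l ≠ j → b l = 0 → D.lam (root h c) b = 1 := by
    intro b hb hbj l hli hlj hbl
    have f1 : ∀ x : F, D.act (root hli.symm x) b = b := fun x => by rw [D.act_root hli.symm, hbl, mul_zero]; simp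
    have f2 : ∀ x : F, D.act (root hlj x) b = b := fun x => by rw [D.act_root hlj, hbj, mul_zero]; simp
    have hfi : D.act (root hli.symm c)⁻¹ b = b := by
      nth_rw 1 [← f1 c]
      rw [← D.act_mul, inv_mul_cancel, D.act_one]
    have hfj : D.act (root hlj (1 : F))⁻¹ b = b := by
      nth_rw 1 [← f2 1]
      rw [← D.act_mul, inv_mul_cancel, D.act_one]
    have e1 : D.act (root hli.symm c * root hlj 1) b = b := by rw [D.act_mul, f2, f1]
    have e2 : D.act (root hli.symm c * root hlj 1 * (root hli.symm c)⁻¹) b = b := by rw [D.act_mul, hfi, e1]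
    have h1 := hrk b hb
    rw [show root h c = root hli.symm c * root hlj 1 * (root hli.symm c)⁻¹ * (root hlj 1)⁻¹ by
      rw [root_bracket h hli.symm hlj, mul_one], D.lam_mul e2 hfj h1, D.lam_mul e1 hfi h1,
      D.lam_mul (f1 c) (f2 1) h1]
    have i1 : D.lam (root hli.symm c) b * D.lam (root hli.symm c)⁻¹ b = 1 := by
      rw [← D.lam_mul (f1 c) hfi h1, mul_inv_cancel, D.lam_one h1]
    have i2 : D.lam (root hlj (1 : F)) b * D.lam (root hlj (1 : F))⁻¹ b = 1 := by
      rw [← D.lam_mul (f2 1) hfj h1, mul_inv_cancel, D.lam_one h1]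
    linear_combination (D.lam (root hlj (1 : F)) b * D.lam (root hlj (1 : F))⁻¹ b) * i1 + i2
  obtain ⟨l₁, l₂, hl12, h1i, h1j, h2i, h2j⟩ : ∃ l₁ l₂, l₁ ≠ l₂ ∧ l₁ ≠ i ∧ l₁ ≠ j ∧ l₂ ≠ i ∧ l₂ ≠ j := by
    have hc : 1 < (((Finset.univ : Finset (Fin m)).erase i).erase j).card := by
      rw [Finset.card_erase_of_mem (by simp [h.symm]), Finset.card_erase_of_mem (Finset.mem_univ _),
        Finset.card_univ, Fintype.card_fin]
      omega
    obtain ⟨l₁, h₁, l₂, h₂, hne⟩ := Finset.one_lt_card.1 hc
    simp only [Finset.mem_erase, Finset.mem_univ, and_true] at h₁ h₂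
    exact ⟨l₁, l₂, hne, h₁.2, h₁.1, h₂.2, h₂.1⟩
  by_cases hex : ∃ k, k ≠ i ∧ k ≠ j ∧ a k ≠ 0
  · obtain ⟨k, hki, hkj, hk⟩ := hex
    refine D.lam_trivial_reduce h (hrk a ha) hfix hki hkj hk c hrk ?_
    have hne : (Pi.single k (a k) : Fin m → F) ≠ 0 := by simpa using hk
    have hfix' : (Pi.single k (a k) : Fin m → F) j = 0 := by simp [hkj.symm]
    by_cases hk1 : l₁ = k
    · exact key _ hne hfix' l₂ h2i h2j (by simp [show l₂ ≠ k from hk1 ▸ hl12.symm])
    · exact key _ hne hfix' l₁ h1i h1j (by simp [hk1])
  · push Not at hex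
    exact key a ha hfix l₁ h1i h1j (hex l₁ h1i h1j)

end Setting

end Cfsg.Agent.SimpleFacts.MinDeg
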