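import Cfsg.Agent.SimpleFacts.MinDeg.Affine
import Cfsg.Agent.Lib.Characters.Basic
import Mathlib

/-!
The eigenprojectors of the translations in a representation of a group between `SL_{m+1}` and `GL_{m+1}`.
-/

set_option autoImplicit false
set_option linter.unusedSectionVars false

namespace Cfsg.Agent.SimpleFacts.MinDeg

open Matrix Module

universe u w

variable (F : Type u) [Field F] (m : ℕ)

/-- The data: the group, the twist of the blocks, an additive character, a representation. -/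
structure Setting (V : Type w) [AddCommGroup V] [Module ℂ V] where
  H : Subgroup (GL (Fin (m + 1)) F)
  hH : ∀ g, GeneralLinearGroup.det g = 1 → g ∈ H
  δ : GL (Fin m) F →* Fˣ
  hδ : ∀ A, GeneralLinearGroup.det A = 1 → δ A = 1
  hmem : ∀ A, bl (δ A, A) ∈ H
  ψ : AddChar F ℂ
  hψ : ψ ≠ 1
  ρ : Representation ℂ H V

theorem exists_addChar [Finite F] : ∃ ψ : AddChar F ℂ, ψ ≠ 1 := by
  obtain ⟨ψ, hψ⟩ := AddChar.exists_apply_ne_zero.2 (one_ne_zero (α := F))
  exact ⟨ψ, fun e => hψ (by rw [e]; rfl)⟩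

variable {F m} [Fintype F] {V : Type w} [AddCommGroup V] [Module ℂ V] (D : Setting F m V)

namespace Setting

/-- The translations inside. -/
def tH (v : Fin m → F) : D.H := ⟨tr v, D.hH _ (det_tr v)⟩

/-- The block subgroup inside. -/
def ι : GL (Fin m) F →* D.H :=
  MonoidHom.codRestrict (bl.comp ((D.δ.prod (MonoidHom.id _)))) D.H D.hmem

theorem tH_add (v w : Fin m → F) : D.tH (v + w) = D.tH v * D.tH w := Subtype.ext (tr_add v w)

theorem tH_zero : D.tH 0 = 1 := Subtype.ext tr_zero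

theorem ι_conj (A : GL (Fin m) F) (v : Fin m → F) :
    D.ι A * D.tH v =
      D.tH ((D.δ A : F) • (v ᵥ* ((A⁻¹ : GL (Fin m) F) : Matrix (Fin m) (Fin m) F))) * D.ι A :=
  Subtype.ext (bl_conj_tr (D.δ A, A) v)

/-- The action on the indices of the eigenprojectors. -/
def act (A : GL (Fin m) F) (a : Fin m → F) : Fin m → F :=
  ((D.δ A)⁻¹ : Fˣ).1 • ((A : Matrix (Fin m) (Fin m) F) *ᵥ a)

theorem act_mul (A B : GL (Fin m) F) (a : Fin m → F) : D.act (A * B) a = D.act A (D.act B a) := by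
  simp only [act, map_mul, mul_inv, Units.val_mul, Matrix.mulVec_smul, smul_smul, Matrix.mulVec_mulVec]

theorem act_one (a : Fin m → F) : D.act 1 a = a := by simp [act]

/-- The eigenprojectors. -/
noncomputable def P (a : Fin m → F) : Module.End ℂ V :=
  ((Fintype.card F : ℂ) ^ m)⁻¹ • ∑ v : Fin m → F, D.ψ (-(v ⬝ᵥ a)) • D.ρ (D.tH v)

theorem sum_psi [DecidableEq F] (a : Fin m → F) :
    ∑ v : Fin m → F, D.ψ (v ⬝ᵥ a) = if a = 0 then (Fintype.card F : ℂ) ^ m else 0 := by
  split_ifs with ha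
  · subst ha
    simp
  · let φ : AddChar (Fin m → F) ℂ :=
      { toFun := fun v => D.ψ (v ⬝ᵥ a)
        map_zero_eq_one' := by simp
        map_add_eq_mul' := fun v w => by rw [add_dotProduct, AddChar.map_add_eq_mul] }
    refine (AddChar.sum_eq_zero_of_ne_one (ψ := φ) fun e => D.hψ ?_)
    obtain ⟨i, hi⟩ := Function.ne_iff.1 ha
    refine DFunLike.ext _ _ fun x => ?_
    have h := DFunLike.congr_fun e (Pi.single i (x * (a i)⁻¹))
    change D.ψ (Pi.single i (x * (a i)⁻¹) ⬝ᵥ a) = 1 at h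
    rw [single_dotProduct, mul_assoc, inv_mul_cancel₀ hi, mul_one] at h
    rw [h]; rfl

theorem card_ne_zero : ((Fintype.card F : ℂ) ^ m) ≠ 0 :=
  pow_ne_zero _ (Nat.cast_ne_zero.2 Fintype.card_ne_zero)

theorem rho_mul_P (w a : Fin m → F) : D.ρ (D.tH w) * D.P a = D.ψ (w ⬝ᵥ a) • D.P a := by
  rw [P, mul_smul_comm, smul_comm (D.ψ (w ⬝ᵥ a))]
  congr 1
  rw [Finset.mul_sum, Finset.smul_sum]
  refine Fintype.sum_equiv (Equiv.addLeft (w : Fin m → F)) _ _ fun v => ?_
  rw [Equiv.coe_addLeft, mul_smul_comm, ← map_mul, ← tH_add, smul_smul, ← AddChar.map_add_eq_mul,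
    add_dotProduct]
  congr 2
  ring

theorem P_mul_P [DecidableEq F] (a b : Fin m → F) : D.P a * D.P b = if a = b then D.P b else 0 := by
  have h : D.P a * D.P b =
      (((Fintype.card F : ℂ) ^ m)⁻¹ * ∑ v : Fin m → F, D.ψ (v ⬝ᵥ (b - a))) • D.P b := by
    conv_lhs => rw [P, smul_mul_assoc, Finset.sum_mul]
    rw [← smul_smul, Finset.sum_smul]
    congr 1
    refine Finset.sum_congr rfl fun v _ => ?_
    rw [smul_mul_assoc, D.rho_mul_P, smul_smul, ← AddChar.map_add_eq_mul, dotProduct_sub]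
    congr 2
    ring
  rw [h, D.sum_psi]
  by_cases hab : a = b
  · rw [if_pos hab, if_pos (sub_eq_zero.2 hab.symm), inv_mul_cancel₀ card_ne_zero, one_smul]
  · rw [if_neg hab, if_neg (fun e => hab (sub_eq_zero.1 e).symm), mul_zero, zero_smul]

theorem sum_P [DecidableEq F] : ∑ a : Fin m → F, D.P a = 1 := by
  simp only [P]
  rw [← Finset.smul_sum, Finset.sum_comm]
  simp only [← Finset.sum_smul]
  rw [Finset.sum_eq_single (0 : Fin m → F)]
  · simp only [zero_dotProduct, neg_zero, AddChar.map_zero_eq_one, Finset.sum_const, Finset.card_univ,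
      Fintype.card_fun, Fintype.card_fin, nsmul_eq_mul, mul_one, Nat.cast_pow, tH_zero, map_one, smul_smul,
      inv_mul_cancel₀ card_ne_zero, one_smul]
  · intro v _ hv
    have e : ∑ a : Fin m → F, D.ψ (-(v ⬝ᵥ a)) = ∑ a : Fin m → F, D.ψ (a ⬝ᵥ (-v)) :=
      Finset.sum_congr rfl fun a _ => by rw [dotProduct_neg, dotProduct_comm]
    rw [e, D.sum_psi, if_neg (neg_ne_zero.2 hv), zero_smul]
  · simp

theorem conj_P (A : GL (Fin m) F) (a : Fin m → F) : D.ρ (D.ι A) * D.P a = D.P (D.act A a) * D.ρ (D.ι A) := by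
  rw [P, P, mul_smul_comm, smul_mul_assoc, Finset.mul_sum, Finset.sum_mul]
  congr 1
  let e : (Fin m → F) ≃ (Fin m → F) :=
    { toFun := fun v => (D.δ A : F) • (v ᵥ* ((A⁻¹ : GL (Fin m) F) : Matrix (Fin m) (Fin m) F))
      invFun := fun v => ((D.δ A)⁻¹ : Fˣ).1 • (v ᵥ* (A : Matrix (Fin m) (Fin m) F))
      left_inv := fun v => by simp [Matrix.smul_vecMul, smul_smul, Matrix.vecMul_vecMul]
      right_inv := fun v => by simp [Matrix.smul_vecMul, smul_smul, Matrix.vecMul_vecMul] }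
  refine Fintype.sum_equiv e _ _ fun v => ?_
  rw [mul_smul_comm, ← map_mul, D.ι_conj, map_mul, smul_mul_assoc]
  congr 2
  simp [e, act, Matrix.dotProduct_mulVec, Matrix.smul_vecMul, smul_smul, Matrix.vecMul_vecMul]

variable [FiniteDimensional ℂ V]

/-- The multiplicity of an eigencharacter. -/
noncomputable def rk (a : Fin m → F) : ℕ := finrank ℂ (LinearMap.range (D.P a))

theorem P_apply_range [DecidableEq F] (a : Fin m → F) {x : V} (hx : x ∈ LinearMap.range (D.P a)) : D.P a x = x := by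
  obtain ⟨y, rfl⟩ := hx
  rw [← Module.End.mul_apply, D.P_mul_P, if_pos rfl]

theorem trace_P [DecidableEq F] (a : Fin m → F) : LinearMap.trace ℂ V (D.P a) = (D.rk a : ℂ) :=
  LinearMap.IsProj.trace (p := LinearMap.range (D.P a))
    ⟨fun x => LinearMap.mem_range_self _ x, fun x hx => D.P_apply_range a hx⟩

/-- The trace of a block element against a projector. -/
noncomputable def lam (A : GL (Fin m) F) (a : Fin m → F) : ℂ :=
  LinearMap.trace ℂ V (D.ρ (D.ι A) * D.P a)

theorem lam_of_moved [DecidableEq F] {A : GL (Fin m) F} {a : Fin m → F} (h : D.act A a ≠ a) : D.lam A a = 0 := by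
  have e : D.ρ (D.ι A) * D.P a = D.ρ (D.ι A) * D.P a * D.P a := by rw [mul_assoc, D.P_mul_P, if_pos rfl]
  rw [lam, e, LinearMap.trace_mul_comm, D.conj_P, ← mul_assoc, D.P_mul_P, if_neg (Ne.symm h), zero_mul, map_zero]

/-- The trace of a translation times a block element. -/
theorem char_eq_sum [DecidableEq F] (v : Fin m → F) (A : GL (Fin m) F) :
    D.ρ.character (D.tH v * D.ι A) = ∑ a : Fin m → F, D.ψ (v ⬝ᵥ a) * D.lam A a := by
  have h : D.ρ (D.tH v * D.ι A) = ∑ a : Fin m → F, D.ρ (D.tH v) * (D.ρ (D.ι A) * D.P a) := by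
    rw [← Finset.mul_sum, ← Finset.mul_sum, D.sum_P, mul_one, map_mul]
  rw [Representation.character, h, map_sum]
  refine Finset.sum_congr rfl fun a _ => ?_
  rw [D.conj_P, ← mul_assoc, D.rho_mul_P, smul_mul_assoc, map_smul, smul_eq_mul, ← D.conj_P]
  by_cases ha : D.act A a = a
  · rw [ha]; rfl
  · rw [show LinearMap.trace ℂ V (D.ρ (D.ι A) * D.P a) = D.lam A a from rfl, D.lam_of_moved ha, mul_zero,
      mul_zero]

theorem char_ι [DecidableEq F] (A : GL (Fin m) F) : D.ρ.character (D.ι A) = ∑ a : Fin m → F, D.lam A a := by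
  have h := D.char_eq_sum 0 A
  simpa [tH_zero] using h

theorem char_tH [DecidableEq F] (v : Fin m → F) :
    D.ρ.character (D.tH v) = ∑ a : Fin m → F, D.ψ (v ⬝ᵥ a) * (D.rk a : ℂ) := by
  have h := D.char_eq_sum v 1
  rw [map_one, mul_one] at h
  rw [h]
  refine Finset.sum_congr rfl fun a _ => ?_
  rw [lam, map_one, map_one, one_mul, D.trace_P]

/-! ### The fixed space as a representation of the block subgroup -/

theorem act_zero (A : GL (Fin m) F) : D.act A 0 = 0 := by simp [act]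

theorem mapsTo_range [DecidableEq F] (A : GL (Fin m) F) (x : V) (hx : x ∈ LinearMap.range (D.P 0)) :
    D.ρ (D.ι A) x ∈ LinearMap.range (D.P 0) := by
  rw [← D.P_apply_range 0 hx, ← Module.End.mul_apply, D.conj_P, D.act_zero, Module.End.mul_apply]
  exact LinearMap.mem_range_self _ _

/-- The fixed space of the translations. -/
noncomputable def Z [DecidableEq F] : Representation ℂ (GL (Fin m) F) (LinearMap.range (D.P 0)) where
  toFun A := (D.ρ (D.ι A)).restrict (fun x hx => D.mapsTo_range A x hx)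
  map_one' := LinearMap.ext fun x => Subtype.ext (by simp)
  map_mul' A B := LinearMap.ext fun x => Subtype.ext (by simp)

theorem Z_character [DecidableEq F] (A : GL (Fin m) F) : D.Z.character A = D.lam A 0 := by
  let W := LinearMap.range (D.P 0)
  let g : V →ₗ[ℂ] W := (D.ρ (D.ι A) * D.P 0).codRestrict W
    (fun x => D.mapsTo_range A _ (LinearMap.mem_range_self _ x))
  have h1 : W.subtype ∘ₗ g = D.ρ (D.ι A) * D.P 0 := LinearMap.ext fun x => rfl
  have h2 : g ∘ₗ W.subtype = D.Z A := LinearMap.ext fun x => Subtype.ext (by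
    show D.ρ (D.ι A) (D.P 0 x.1) = D.ρ (D.ι A) x.1
    rw [D.P_apply_range 0 x.2])
  rw [Representation.character, lam, ← h1, LinearMap.trace_comp_comm' g W.subtype, h2]

/-! ### Multiplicity one -/

theorem rho_P_eq [DecidableEq F] {A : GL (Fin m) F} {a : Fin m → F} (hA : D.act A a = a) (h1 : D.rk a = 1) :
    D.ρ (D.ι A) * D.P a = D.lam A a • D.P a := by
  obtain ⟨w, hw0, hw⟩ := finrank_eq_one_iff'.1 h1
  set f := D.ρ (D.ι A) * D.P a with hf
  have hfP : f * D.P a = f := by rw [hf, mul_assoc, D.P_mul_P, if_pos rfl]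
  have hPf : D.P a * f = f := by
    rw [hf, D.conj_P, hA, ← mul_assoc, D.P_mul_P, if_pos rfl]
  have hmem : f w.1 ∈ LinearMap.range (D.P a) := by
    rw [← hPf, Module.End.mul_apply]; exact LinearMap.mem_range_self _ _
  obtain ⟨c, hc⟩ := hw ⟨_, hmem⟩
  have hfc : f = c • D.P a := by
    refine LinearMap.ext fun x => ?_
    obtain ⟨d, hd⟩ := hw ⟨D.P a x, LinearMap.mem_range_self _ _⟩
    have hd' : d • w.1 = D.P a x := congrArg Subtype.val hd
    have hc' : c • w.1 = f w.1 := congrArg Subtype.val hc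
    rw [← hfP, Module.End.mul_apply, LinearMap.smul_apply, ← hd', map_smul, ← hc', smul_comm]
  have hcl : D.lam A a = c := by
    show LinearMap.trace ℂ V f = c
    rw [hfc, map_smul, D.trace_P, h1, Nat.cast_one, smul_eq_mul, mul_one]
  rw [hcl]
  exact hfc

theorem lam_mul [DecidableEq F] {A B : GL (Fin m) F} {a : Fin m → F} (hA : D.act A a = a) (hB : D.act B a = a)
    (h1 : D.rk a = 1) : D.lam (A * B) a = D.lam A a * D.lam B a := by
  show LinearMap.trace ℂ V (D.ρ (D.ι (A * B)) * D.P a) = _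
  rw [map_mul D.ι, map_mul D.ρ, mul_assoc, D.rho_P_eq hB h1, mul_smul_comm, D.rho_P_eq hA h1, map_smul, map_smul,
    D.trace_P, h1, Nat.cast_one, smul_eq_mul, smul_eq_mul, mul_one, mul_comm]

theorem lam_one [DecidableEq F] {a : Fin m → F} (h1 : D.rk a = 1) : D.lam 1 a = 1 := by
  rw [lam, map_one, map_one, one_mul, D.trace_P, h1, Nat.cast_one]

theorem lam_pow [DecidableEq F] {A : GL (Fin m) F} {a : Fin m → F} (hA : D.act A a = a) (h1 : D.rk a = 1) :
    ∀ k : ℕ, D.act (A ^ k) a = a ∧ D.lam (A ^ k) a = D.lam A a ^ k := by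
  intro k
  induction k with
  | zero => exact ⟨by rw [pow_zero, D.act_one], by rw [pow_zero, pow_zero, D.lam_one h1]⟩
  | succ k ih =>
    obtain ⟨e1, e2⟩ := ih
    refine ⟨by rw [pow_succ, D.act_mul, hA, e1], ?_⟩
    rw [pow_succ, D.lam_mul e1 hA h1, e2, pow_succ]

theorem lam_pow_orderOf [DecidableEq F] {A : GL (Fin m) F} {a : Fin m → F} (hA : D.act A a = a)
    (h1 : D.rk a = 1) : D.lam A a ^ orderOf A = 1 := by
  rw [← (D.lam_pow hA h1 _).2, pow_orderOf_eq_one, D.lam_one h1]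

theorem norm_lam [DecidableEq F] {A : GL (Fin m) F} {a : Fin m → F} (hA : D.act A a = a) (h1 : D.rk a = 1) :
    ‖D.lam A a‖ = 1 :=
  Complex.norm_eq_one_of_pow_eq_one (D.lam_pow_orderOf hA h1) (orderOf_pos A).ne'

theorem lam_conj [DecidableEq F] (h : GL (Fin m) F) {A : GL (Fin m) F} {a : Fin m → F} :
    D.lam (h * A * h⁻¹) (D.act h a) = D.lam A a := by
  have e : D.P (D.act h a) = D.ρ (D.ι h) * D.P a * D.ρ (D.ι h⁻¹) := by
    rw [D.conj_P, mul_assoc, ← map_mul, ← map_mul, mul_inv_cancel, map_one, map_one, mul_one]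
  show LinearMap.trace ℂ V (D.ρ (D.ι (h * A * h⁻¹)) * D.P (D.act h a)) = _
  rw [e, map_mul D.ι, map_mul D.ι, map_mul D.ρ, map_mul D.ρ]
  rw [show D.ρ (D.ι h) * D.ρ (D.ι A) * D.ρ (D.ι h⁻¹) * (D.ρ (D.ι h) * D.P a * D.ρ (D.ι h⁻¹)) =
    D.ρ (D.ι h) * (D.ρ (D.ι A) * (D.ρ (D.ι h⁻¹) * D.ρ (D.ι h)) * D.P a * D.ρ (D.ι h⁻¹)) by simp only [mul_assoc],
    LinearMap.trace_mul_comm, ← map_mul D.ρ (D.ι h⁻¹), ← map_mul D.ι, inv_mul_cancel, map_one, map_one, mul_one,
    mul_assoc, mul_assoc, ← map_mul D.ρ, ← map_mul D.ι, inv_mul_cancel, map_one, map_one, mul_one]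
  rfl

end Setting

end Cfsg.Agent.SimpleFacts.MinDeg
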