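import Cfsg.Agent.SimpleFacts.MinDeg.Projectors
import Cfsg.Agent.Lib.Characters.Integrality
import Cfsg.Agent.Lib.Characters.Inner
import Mathlib

/-!
The character of a representation on the transvections.
-/

set_option autoImplicit false
set_option linter.unusedSectionVars false

namespace Cfsg.Agent.SimpleFacts.MinDeg

open Matrix Module

universe u w

variable {F : Type u} [Field F] {m : ℕ}

/-- A transvection as an element of `GL`. -/
def root {i j : Fin m} (h : i ≠ j) (c : F) : GL (Fin m) F :=
  SpecialLinearGroup.toGL (SpecialLinearGroup.transvection h c)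

theorem coe_root {i j : Fin m} (h : i ≠ j) (c : F) :
    (root h c : Matrix (Fin m) (Fin m) F) = Matrix.transvection i j c := rfl

theorem det_root {i j : Fin m} (h : i ≠ j) (c : F) : GeneralLinearGroup.det (root h c) = 1 := by
  apply Units.ext
  exact (SpecialLinearGroup.transvection h c).2

theorem root_add {i j : Fin m} (h : i ≠ j) (c d : F) : root h (c + d) = root h c * root h d := by
  rw [root, root, root, SpecialLinearGroup.transvection_add h, map_mul]

theorem root_zero {i j : Fin m} (h : i ≠ j) : root h (0 : F) = 1 := by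
  apply Units.ext; rw [coe_root, Matrix.transvection_zero]; rfl

theorem root_bracket {i j l : Fin m} (hij : i ≠ j) (hil : i ≠ l) (hlj : l ≠ j) (a b : F) :
    root hil a * root hlj b * (root hil a)⁻¹ * (root hlj b)⁻¹ = root hij (a * b) := by
  rw [root, root, root, ← Classical.Linear.commutator_transvection hij hil hlj a b, commutatorElement_def,
    map_mul, map_mul, map_mul, map_inv, map_inv]

theorem root_mulVec {i j : Fin m} (h : i ≠ j) (c : F) (a : Fin m → F) :
    (root h c : Matrix (Fin m) (Fin m) F) *ᵥ a = a + Pi.single i (c * a j) := by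
  rw [coe_root]
  funext k
  rw [Classical.Linear.transvection_mulVec_apply, Pi.add_apply, Pi.single_apply]

variable [Fintype F] {V : Type w} [AddCommGroup V] [Module ℂ V] (D : Setting F m V)

namespace Setting

theorem act_of_det (A : GL (Fin m) F) (hA : GeneralLinearGroup.det A = 1) (a : Fin m → F) :
    D.act A a = (A : Matrix (Fin m) (Fin m) F) *ᵥ a := by
  rw [act, D.hδ A hA]; simp

theorem act_root {i j : Fin m} (h : i ≠ j) (c : F) (a : Fin m → F) :
    D.act (root h c) a = a + Pi.single i (c * a j) := by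
  rw [D.act_of_det _ (det_root h c), root_mulVec]

theorem act_root_fix_iff {i j : Fin m} (h : i ≠ j) {c : F} (hc : c ≠ 0) (a : Fin m → F) :
    D.act (root h c) a = a ↔ a j = 0 := by
  rw [D.act_root h, add_eq_left, Pi.single_eq_zero_iff, mul_eq_zero]
  simp [hc]

variable [FiniteDimensional ℂ V] (hm : 2 ≤ m)

/-- The value on the transvections. -/
noncomputable def tval : ℂ := D.ρ.character (D.tH (Pi.single (⟨0, by omega⟩ : Fin m) 1))

include hm

theorem char_transvection {h : D.H}
    (hh : Cfsg.IsTransvection ((h : GL (Fin (m + 1)) F) : Matrix (Fin (m + 1)) (Fin (m + 1)) F)) :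
    D.ρ.character h = D.tval hm := by
  obtain ⟨g, hg, e⟩ := exists_conj hm hh
  have e' : (⟨g, D.hH g hg⟩ : D.H) * D.tH (Pi.single (⟨0, by omega⟩ : Fin m) 1) * (⟨g, D.hH g hg⟩ : D.H)⁻¹ = h :=
    Subtype.ext e
  rw [← e', Representation.char_conj, tval]

theorem char_tH_ne {v : Fin m → F} (hv : v ≠ 0) : D.ρ.character (D.tH v) = D.tval hm :=
  D.char_transvection hm (tr_isTransvection hv)

theorem char_root {i j : Fin m} (h : i ≠ j) {c : F} (hc : c ≠ 0) :
    D.ρ.character (D.ι (root h c)) = D.tval hm := by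
  refine D.char_transvection hm ?_
  show Cfsg.IsTransvection (bl (D.δ (root h c), root h c) : Matrix (Fin (m + 1)) (Fin (m + 1)) F)
  rw [D.hδ _ (det_root h c)]
  refine bl_isTransvection (u := Pi.single i c) (φ := Pi.single j 1) ?_ (by simpa using hc) (by simp) ?_
  · rw [coe_root, Matrix.transvection]
    congr 1
    ext k l
    by_cases hk : k = i <;> by_cases hl : l = j <;> simp [vecMulVec_apply, hk, hl, Matrix.single_apply, Ne.symm]
  · simp [h]

/-- The dimension formula. -/
theorem exists_mult [DecidableEq F] : ∃ k : ℕ, (∀ a : Fin m → F, a ≠ 0 → D.rk a = k) ∧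
    (finrank ℂ V : ℂ) - D.tval hm = (k : ℂ) * (Fintype.card F : ℂ) ^ m ∧
    finrank ℂ V = D.rk 0 + (Fintype.card F ^ m - 1) * k := by
  have key : ∀ a : Fin m → F, a ≠ 0 →
      (D.rk a : ℂ) = ((Fintype.card F : ℂ) ^ m)⁻¹ * ((finrank ℂ V : ℂ) - D.tval hm) := by
    intro a ha
    rw [← D.trace_P, P, map_smul, map_sum, smul_eq_mul]
    congr 1
    have hv : ∀ v : Fin m → F, LinearMap.trace ℂ V (D.ψ (-(v ⬝ᵥ a)) • D.ρ (D.tH v)) =
        D.ψ (v ⬝ᵥ (-a)) * D.tval hm + if v = 0 then (finrank ℂ V : ℂ) - D.tval hm else 0 := by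
      intro v
      rw [map_smul, smul_eq_mul, dotProduct_neg]
      split_ifs with hv
      · subst hv
        rw [zero_dotProduct, neg_zero, AddChar.map_zero_eq_one, D.tH_zero, map_one, LinearMap.trace_one]
        ring
      · rw [add_zero]
        congr 1
        exact D.char_tH_ne hm hv
    simp only [hv, Finset.sum_add_distrib, ← Finset.sum_mul, D.sum_psi, neg_eq_zero, if_neg ha, zero_mul,
      zero_add, Finset.sum_ite_eq', Finset.mem_univ, if_true]
  set a₀ : Fin m → F := Pi.single (⟨0, by omega⟩ : Fin m) 1 with ha₀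
  have h0 : a₀ ≠ 0 := by simp [ha₀]
  refine ⟨D.rk a₀, fun a ha => Nat.cast_injective (R := ℂ) (by rw [key a ha, key a₀ h0]), ?_, ?_⟩
  · rw [key a₀ h0]
    field_simp [Setting.card_ne_zero (F := F) (m := m)]
  · have hs : (finrank ℂ V : ℂ) = ∑ a : Fin m → F, (D.rk a : ℂ) := by
      simp only [← D.trace_P]
      rw [← map_sum, D.sum_P, LinearMap.trace_one]
    rw [← Finset.add_sum_erase _ _ (Finset.mem_univ (0 : Fin m → F)),
      Finset.sum_congr rfl (g := fun _ => (D.rk a₀ : ℂ)) (fun a ha => by
        rw [key a (Finset.ne_of_mem_erase ha), key a₀ h0]), Finset.sum_const,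
      Finset.card_erase_of_mem (Finset.mem_univ _), Finset.card_univ, Fintype.card_fun, Fintype.card_fin,
      nsmul_eq_mul] at hs
    exact_mod_cast hs

/-- The value on the transvections inside the fixed space. -/
theorem Z_root [DecidableEq F] {i j : Fin m} (h : i ≠ j) {k : ℕ} (hk : ∀ a : Fin m → F, a ≠ 0 → D.rk a = k)
    (hk1 : k = 1) (hD : (finrank ℂ V : ℂ) - D.tval hm = (k : ℂ) * (Fintype.card F : ℂ) ^ m)
    (hd : finrank ℂ V = D.rk 0 + (Fintype.card F ^ m - 1) * k) {c : F} (hc : c ≠ 0)
    (hlam : ∀ a : Fin m → F, a ≠ 0 → a j = 0 → D.lam (root h c) a = 1) :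
    D.Z.character (root h c) = (D.rk 0 : ℂ) - (Fintype.card F : ℂ) ^ (m - 1) := by
  have hsum := D.char_ι (root h c)
  rw [D.char_root hm h hc, ← Finset.add_sum_erase _ _ (Finset.mem_univ (0 : Fin m → F)), ← D.Z_character] at hsum
  have hval : ∀ a ∈ (Finset.univ : Finset (Fin m → F)).erase 0,
      D.lam (root h c) a = if a j = 0 then 1 else 0 := by
    intro a ha
    have ha0 := Finset.ne_of_mem_erase ha
    split_ifs with haj
    · exact hlam a ha0 haj
    · exact D.lam_of_moved fun e => haj ((D.act_root_fix_iff h hc a).1 e)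
  rw [Finset.sum_congr rfl hval, Finset.sum_boole] at hsum
  have hcard : (((Finset.univ : Finset (Fin m → F)).erase 0).filter fun a => a j = 0).card + 1 =
      Fintype.card F ^ (m - 1) := by
    have h1 : (((Finset.univ : Finset (Fin m → F)).erase 0).filter fun a => a j = 0) =
        ((Finset.univ : Finset (Fin m → F)).filter fun a => a j = 0).erase 0 := Finset.filter_erase _ _ _
    rw [h1, Finset.card_erase_of_mem (by simp), Nat.sub_add_cancel (Finset.card_pos.2 ⟨0, by simp⟩),
      ← Fintype.card_subtype]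
    rw [← Fintype.card_congr (α := {i : Fin m // i ≠ j} → F)]
    · rw [Fintype.card_fun, Fintype.card_subtype_compl, Fintype.card_subtype_eq, Fintype.card_fin]
    · exact
        { toFun := fun f => ⟨fun i => if hi : i = j then 0 else f ⟨i, hi⟩, by simp⟩
          invFun := fun a i => a.1 i.1
          left_inv := fun f => funext fun i => by simp [i.2]
          right_inv := fun a => Subtype.ext (funext fun i => by
            by_cases hi : i = j
            · simp [hi, a.2]
            · simp [hi]) }
  have hcard' : ((((Finset.univ : Finset (Fin m → F)).erase 0).filter fun a => a j = 0).card : ℂ) + 1 =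
      (Fintype.card F : ℂ) ^ (m - 1) := by exact_mod_cast hcard
  have hd' : (finrank ℂ V : ℂ) = (D.rk 0 : ℂ) + ((Fintype.card F : ℂ) ^ m - 1) := by
    rw [hd, hk1, mul_one, Nat.cast_add, Nat.cast_sub (Nat.one_le_pow _ _ Fintype.card_pos), Nat.cast_pow,
      Nat.cast_one]
  rw [hk1, Nat.cast_one, one_mul] at hD
  linear_combination (-1 : ℂ) * hsum - hcard' - hD + hd'

/-- Transvections in the kernel. -/
theorem rho_eq_one_of_mult_zero (hD : (finrank ℂ V : ℂ) - D.tval hm = 0) {h : D.H}
    (hh : Cfsg.IsTransvection ((h : GL (Fin (m + 1)) F) : Matrix (Fin (m + 1)) (Fin (m + 1)) F)) :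
    D.ρ h = LinearMap.id :=
  Cfsg.Agent.Characters.rep_apply_eq_id_of_char_eq D.ρ h
    (by rw [D.char_transvection hm hh]; exact (sub_eq_zero.1 hD).symm)

/-- The integrality of the central character on the transvections. -/
theorem dvd_of_irreducible [D.ρ.IsIrreducible] {k : ℕ}
    (hD : (finrank ℂ V : ℂ) - D.tval hm = (k : ℂ) * (Fintype.card F : ℂ) ^ m) :
    finrank ℂ V * (Fintype.card F - 1) ∣
      (Fintype.card F ^ (m + 1) - 1) * (Fintype.card F ^ m - 1) * (k * Fintype.card F ^ m) := by
  classical
  set S : Finset D.H := Finset.univ.filter fun h : D.H =>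
    Cfsg.IsTransvection ((h : GL (Fin (m + 1)) F) : Matrix (Fin (m + 1)) (Fin (m + 1)) F) with hS
  have hint := Cfsg.Agent.Characters.central_char_isIntegral D.ρ S (fun g x hg => by
    simp only [hS, Finset.mem_filter, Finset.mem_univ, true_and] at hg ⊢
    exact conj_isTransvection hg (x : GL (Fin (m + 1)) F))
  rw [Finset.sum_congr rfl (fun g hg => D.char_transvection hm (Finset.mem_filter.1 hg).2), Finset.sum_const,
    nsmul_eq_mul] at hint
  have hpos := Cfsg.Agent.Characters.finrank_pos_of_isIrreducible D.ρ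
  have hne : (finrank ℂ V : ℂ) ≠ 0 := Nat.cast_ne_zero.2 hpos.ne'
  have hint2 : IsIntegral ℤ (((S.card * (k * Fintype.card F ^ m) : ℕ) : ℂ) / (finrank ℂ V : ℂ)) := by
    have e : ((S.card * (k * Fintype.card F ^ m) : ℕ) : ℂ) / (finrank ℂ V : ℂ) =
        ((S.card : ℤ) : ℂ) - (S.card : ℂ) * D.tval hm / (finrank ℂ V : ℂ) := by
      push_cast
      rw [← hD]
      field_simp
    rw [e]
    exact (isIntegral_algebraMap (R := ℤ)).sub hint
  have hdvd := Cfsg.Agent.Characters.dvd_of_isIntegral_div hpos.ne' hint2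
  have hcard := natCard_transvections (F := F) hm D.H D.hH
  rw [Nat.card_eq_fintype_card, Fintype.card_subtype, ← hS] at hcard
  rw [← hcard, mul_right_comm]
  exact Nat.mul_dvd_mul_right hdvd _

end Setting

end Cfsg.Agent.SimpleFacts.MinDeg
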